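import Groth.Agent.L06.RootLines.Field
import Groth.Prelude.Def_LieWt
import Groth.Agent.L24.TorusField.RegularLin

/-!
# Weight spaces on the Lie algebra and weights on tangent vectors
-/

set_option autoImplicit false
set_option linter.unusedSectionVars false
set_option linter.style.haveILetI false
set_option backward.isDefEq.respectTransparency.types false
set_option maxHeartbeats 1000000

universe u v

open CategoryTheory CategoryTheory.Limits MonoidalCategory CartesianMonoidalCategory MonObj GrpObj AlgebraicGeometry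
open WithConv LieS Groth.L06.CoxeterElt
open Groth.L24.TorusField (evAt evAt_mul evAt_one evAt_comp dualPt fst_dualPt snd_dualPt liePt liePt_mem evAt_liePt)
open Groth.L25.Dyn (torO torP cstM pmap mapAlgHom_torO)
open AddMonoidAlgebra (mapAlgHom single mapAlgHom_single)
open Groth.L08.AugGraded (IsTangent)
open Groth.L25.Bridge (P)
open Groth.L08.TorusQuot (sp sp_left sp_comp exists_sp toPt ofPt toPt_ofPt ofPt_toPt toPt_pre SP pre)

noncomputable section

namespace Groth.L06.RootLines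

variable {k : Type u} [Field k] {r : ℕ}

local notation "SK" => Spec (CommRingCat.of k)
local notation "f₀" => Spec.map (CommRingCat.ofHom (algebraMap k k))

section Characters

theorem char_chT {D : Type u} [CommRing D] [Algebra k D] (t : SP k D ⟶ TT k r) (m : Fin r → ℤ) (n : ℤ) :
    Groth.L25.DSPts.char (t ≫ chT k m) (Multiplicative.ofAdd n) =
      (Scheme.ΓSpecIso (CommRingCat.of D)).inv ((ofPt t).ofConv (single (n • m) 1)) := by
  rw [chT, ← Category.assoc, Red.chi, Groth.L25.SplitSub.char_DSmap, MonoidHom.comp_apply,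
    show AddMonoidHom.toMultiplicative (zmultiplesHom (Fin r → ℤ) m : ℤ →+ (Fin r → ℤ)) (Multiplicative.ofAdd n) =
      Multiplicative.ofAdd (n • m) from rfl, char_toDS]

theorem chT_add (m m' : Fin r → ℤ) : chT k (m + m') = chT k m * chT k m' := by
  refine Groth.L25.Dyn.hom_ext_spec _ _ fun D _ _ t => Groth.L25.DSPts.char_injective (MonoidHom.ext fun x => ?_)
  obtain ⟨n, rfl⟩ : ∃ n, Multiplicative.ofAdd n = x := ⟨Multiplicative.toAdd x, rfl⟩
  rw [MonObj.comp_mul, Groth.L25.DSPts.char_mul, MonoidHom.mul_apply, char_chT, char_chT, char_chT, smul_add,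
    show (single (n • m + n • m') 1 : TB k r) = single (n • m) 1 * single (n • m') 1 by
      rw [AddMonoidAlgebra.single_mul_single, _root_.mul_one]]
  refine Eq.trans ?_ (map_mul _ _ _)
  congr 1
  exact map_mul _ _ _

theorem chT_injective : Function.Injective (chT k (r := r)) := fun m m' h => by
  have h1 := congrArg (fun α => Groth.L25.DSPts.char ((𝟙 (TT k r) : SP k (TB k r) ⟶ TT k r) ≫ α)
    (Multiplicative.ofAdd (1 : ℤ))) h
  simp only [char_chT, one_smul] at h1
  have h2 := (Scheme.ΓSpecIso (CommRingCat.of (TB k r))).symm.commRingCatIsoToRingEquiv.injective h1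
  have e : (ofPt (𝟙 (TT k r) : SP k (TB k r) ⟶ TT k r)) = toConv (AlgHom.id k (TB k r)) :=
    Spec.mapMulEquiv.injective (by
      show toPt (ofPt _) = toPt _
      rw [toPt_ofPt]
      exact (Over.OverMorphism.ext (Spec.map_id _)).symm)
  rw [e] at h2
  exact AddMonoidAlgebra.single_left_injective one_ne_zero h2

theorem chT_zero : chT k (0 : Fin r → ℤ) = 1 := by
  letI : Group (TT k r ⟶ Red.Gm SK) := Hom.group
  exact (left_eq_mul.1 (show chT k (0 : Fin r → ℤ) = chT k 0 * chT k 0 by rw [← chT_add, add_zero]))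

theorem isMonHom_chT (m : Fin r → ℤ) : IsMonHom (chT k m) := by
  haveI : IsMonHom (Red.chi SK m) := Groth.L25.TorusTorsion.isMonHom_DSmap _ _
  exact inferInstanceAs (IsMonHom (toDS k r ≫ Red.chi SK m))

theorem chT_neg (m : Fin r → ℤ) : chT k (-m) = (chT k m)⁻¹ := by
  letI : Group (TT k r ⟶ Red.Gm SK) := Hom.group
  exact eq_inv_of_mul_eq_one_left (by rw [← chT_add, neg_add_cancel, chT_zero])

theorem chT_zsmul (m : Fin r → ℤ) (n : ℤ) : chT k (n • m) = chT k m ^ n := by
  letI : Group (TT k r ⟶ Red.Gm SK) := Hom.group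
  let F : (Fin r → ℤ) →+ Additive (TT k r ⟶ Red.Gm SK) :=
    AddMonoidHom.mk' (fun x => Additive.ofMul (chT k x)) fun x y => congrArg Additive.ofMul (chT_add x y)
  exact congrArg Additive.toMul (map_zsmul F n m)

end Characters

section Bridge

variable {G T : Over (Spec (CommRingCat.of k))} [GrpObj G] [GrpObj T] {A : Type u} [CommRing A] [HopfAlgebra k A]
  (eq : G ≅ P k A) [IsMonHom eq.hom]

/-- a point of the dual numbers over an algebra -/
def dIso {B' : Type u} [CommRing B'] [Algebra k B'] (φ0 : k →ₐ[k] B') :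
    dpt B' (Spec.map (CommRingCat.ofHom φ0.toRingHom) ≫ f₀) ≅ SP k (DualNumber B') :=
  Over.isoMk (Iso.refl (Spec (CommRingCat.of (DualNumber B')))) (by
    change 𝟙 _ ≫ Spec.map _ = Spec.map _ ≫ Spec.map _ ≫ Spec.map _
    rw [Category.id_comp, ← Category.assoc, specMap_comp, specMap_comp]
    congr 2
    exact RingHom.ext fun c => by
      have h : φ0 c = algebraMap k B' c := φ0.commutes c
      simp [TrivSqZeroExt.algebraMap_eq_inl', h])

/-- the base point -/
def e1Iso {B' : Type u} [CommRing B'] [Algebra k B'] (φ0 : k →ₐ[k] B') :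
    LieS.pt B' (Spec.map (CommRingCat.ofHom φ0.toRingHom) ≫ f₀) ≅ SP k B' :=
  VecGrp.ptIso φ0 ≪≫ Over.isoMk (Iso.refl (Spec (CommRingCat.of B'))) (Category.id_comp _)

/-- evaluation as a homomorphism -/
def evHom {R : Type u} [CommRing R] [Algebra k R] {X : Over SK} (e : X ≅ SP k R) :
    (X ⟶ G) →* WithConv (A →ₐ[k] R) where
  toFun := evAt eq e
  map_one' := evAt_one eq e
  map_mul' := evAt_mul eq e

theorem evHom_injective {R : Type u} [CommRing R] [Algebra k R] {X : Over SK} (e : X ≅ SP k R) :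
    Function.Injective (evHom eq e) := fun z z' h => by
  have e2 := (Spec.mapMulEquiv (R := k) (S := A) (T := R)).symm.injective h
  rw [cancel_epi, cancel_mono] at e2
  exact e2

/-- base change of dual numbers as an algebra map -/
def bcAlg {B' : Type u} [CommRing B'] [Algebra k B'] (φ0 : k →ₐ[k] B') : DualNumber k →ₐ[k] DualNumber B' :=
  { bcHom φ0.toRingHom with
    commutes' := fun c => by
      have h : φ0 c = algebraMap k B' c := φ0.commutes c
      refine TrivSqZeroExt.ext ?_ ?_ <;> simp [bcHom, TrivSqZeroExt.algebraMap_eq_inl', h] }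

/-- a Lie element reduces to the unit -/
theorem fst_evAt {B' : Type u} [CommRing B'] [Algebra k B'] (φ0 : k →ₐ[k] B')
    (z : LieS.Lie G B' (Spec.map (CommRingCat.ofHom φ0.toRingHom) ≫ f₀)) (a : A) :
    ((evAt eq (dIso φ0) z.1).ofConv a).fst = algebraMap k B' (Coalgebra.counit (R := k) a) := by
  have e := evAt_comp eq (dIso φ0) (e1Iso φ0) (TrivSqZeroExt.fstHom B' B' B').toRingHom
    (zeroSec B' (Spec.map (CommRingCat.ofHom φ0.toRingHom) ≫ f₀)) (by
      simp only [Over.comp_left]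
      show (𝟙 _ ≫ 𝟙 _) ≫ Spec.map _ ≫ 𝟙 _ = _
      rw [Category.id_comp, Category.id_comp, Category.comp_id]) z.1 a
  rw [(mem_Lie_iff G B' _ z.1).1 z.2, evAt_one, AlgHom.convOne_apply] at e
  exact e.symm

theorem lie_ext {B' : Type u} [CommRing B'] [Algebra k B'] (φ0 : k →ₐ[k] B')
    {z z' : LieS.Lie G B' (Spec.map (CommRingCat.ofHom φ0.toRingHom) ≫ f₀)}
    (h : ∀ a, ((evAt eq (dIso φ0) z.1).ofConv a).snd = ((evAt eq (dIso φ0) z'.1).ofConv a).snd) : z = z' :=
  Subtype.ext (evHom_injective eq (dIso φ0) (WithConv.ofConv_injective (AlgHom.ext fun a =>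
    TrivSqZeroExt.ext (by
      show ((evAt eq (dIso φ0) z.1).ofConv a).fst = ((evAt eq (dIso φ0) z'.1).ofConv a).fst
      rw [fst_evAt, fst_evAt]) (h a))))

/-- the tangent vector of a Lie element -/
def wOf (z : dpt k f₀ ⟶ G) : A →ₗ[k] k where
  toFun a := ((evAt eq (dptIso (R := k) k) z).ofConv a).snd
  map_add' x y := by rw [map_add, TrivSqZeroExt.snd_add]
  map_smul' c x := by rw [map_smul, TrivSqZeroExt.snd_smul]; rfl

theorem fst_evAt_lie (z : LieS.Lie G k f₀) (a : A) :
    ((evAt eq (dptIso (R := k) k) z.1).ofConv a).fst = Coalgebra.counit (R := k) a := by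
  let e0 : LieS.pt k f₀ ≅ SP k k := Over.isoMk (Iso.refl (Spec (CommRingCat.of k))) (Category.id_comp _)
  have e := evAt_comp eq (dptIso (R := k) k) e0 (TrivSqZeroExt.fstHom k k k).toRingHom (zeroSec k f₀) (by
    simp only [Over.comp_left]
    show 𝟙 _ ≫ Spec.map _ ≫ 𝟙 _ = _
    rw [Category.id_comp, Category.comp_id]) z.1 a
  rw [(mem_Lie_iff G k _ z.1).1 z.2, evAt_one, AlgHom.convOne_apply] at e
  simpa using e.symm

theorem isTangent_wOf (z : LieS.Lie G k f₀) : IsTangent k A (wOf eq z.1) := fun a b => by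
  show ((evAt eq (dptIso (R := k) k) z.1).ofConv (a * b)).snd =
    _ * ((evAt eq (dptIso (R := k) k) z.1).ofConv b).snd + _ * ((evAt eq (dptIso (R := k) k) z.1).ofConv a).snd
  rw [map_mul, TrivSqZeroExt.snd_mul, fst_evAt_lie, fst_evAt_lie]
  simp [mul_comm]

theorem wOf_mul (z z' : LieS.Lie G k f₀) : wOf eq (z * z').1 = wOf eq z.1 + wOf eq z'.1 := by
  refine LinearMap.ext fun a => ?_
  show ((evAt eq (dptIso (R := k) k) (z.1 * z'.1)).ofConv a).snd =
    ((evAt eq (dptIso (R := k) k) z.1).ofConv a).snd + ((evAt eq (dptIso (R := k) k) z'.1).ofConv a).snd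
  rw [evAt_mul]
  have key : ∀ t : TensorProduct k A A,
      ((Algebra.TensorProduct.lift (evAt eq (dptIso (R := k) k) z.1).ofConv
        (evAt eq (dptIso (R := k) k) z'.1).ofConv fun _ _ => Commute.all _ _) t).snd =
      wOf eq z.1 ((TensorProduct.rid k A) ((Coalgebra.counit (R := k) (A := A)).lTensor A t)) +
        wOf eq z'.1 ((TensorProduct.lid k A) ((Coalgebra.counit (R := k) (A := A)).rTensor A t)) := by
    intro t
    induction t using TensorProduct.induction_on with
    | zero => simp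
    | add p q hp hq => simp only [map_add, TrivSqZeroExt.snd_add, hp, hq]; ring
    | tmul p q =>
      rw [Algebra.TensorProduct.lift_tmul, TrivSqZeroExt.snd_mul, fst_evAt_lie, fst_evAt_lie,
        LinearMap.lTensor_tmul, LinearMap.rTensor_tmul, TensorProduct.rid_tmul, TensorProduct.lid_tmul, map_smul,
        map_smul]
      simp [wOf, mul_comm, add_comm]
  have h := key (Coalgebra.comul (R := k) a)
  rw [Coalgebra.lTensor_counit_comul, Coalgebra.rTensor_counit_comul, TensorProduct.rid_tmul, TensorProduct.lid_tmul,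
    one_smul] at h
  rw [AlgHom.convMul_apply]
  exact h

theorem wOf_smul (c : k) (z : LieS.Lie G k f₀) : wOf eq (c • z).1 = c • wOf eq z.1 := by
  refine LinearMap.ext fun a => ?_
  show ((evAt eq (dptIso (R := k) k) (scale k f₀ c ≫ z.1)).ofConv a).snd = _
  rw [evAt_comp eq (dptIso (R := k) k) (dptIso (R := k) k) (scaleHom c) (scale k f₀ c) (by
    simp only [Over.comp_left]
    show 𝟙 _ ≫ Spec.map _ ≫ 𝟙 _ = _
    rw [Category.id_comp, Category.comp_id]) z.1 a]
  simp [scaleHom, wOf, TrivSqZeroExt.algebraMap_eq_inl', mul_comm]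

theorem wOf_injective : Function.Injective fun z : LieS.Lie G k f₀ => wOf eq z.1 := fun z z' h =>
  Subtype.ext (evHom_injective eq (dptIso (R := k) k) (WithConv.ofConv_injective (AlgHom.ext fun a =>
    TrivSqZeroExt.ext (by
      show ((evAt eq (dptIso (R := k) k) z.1).ofConv a).fst = ((evAt eq (dptIso (R := k) k) z'.1).ofConv a).fst
      rw [fst_evAt_lie, fst_evAt_lie]) (LinearMap.congr_fun h a))))

variable {eq}
variable {φ : A →ₐc[k] TB k r} (e : TT k r ≅ T) {i : T ⟶ G}

/-- the tangent vector of a conjugated Lie element -/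
theorem snd_evAt_Ad (hφ : sp φ = e.hom ≫ i ≫ eq.hom) (z : LieS.LieR G k) {B' : Type u} [CommRing B'] [Algebra k B']
    (φ0 : k →ₐ[k] B') (t : VecGrp.pt k B' ⟶ T) (t' : SP k B' ⟶ TT k r)
    (ht : ((VecGrp.ptIso φ0).hom ≫ t) = (e1Iso φ0).hom ≫ t' ≫ e.hom) (a : A) :
    ((evAt eq (dIso φ0) (LieS.Ad G B' _ ((VecGrp.ptIso φ0).hom ≫ t ≫ i)
      (LieS.pull G _ φ0.toRingHom z)).1).ofConv a).snd =
      ∑ n ∈ (torO φ a).coeff.support,
        φ0 (wOf eq z.1 (piece φ n a)) * (ofPt t').ofConv (single n 1) := by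
  let χ : TB k r →ₐ[k] B' := (ofPt t').ofConv
  let inlA : B' →ₐ[k] DualNumber B' := IsScalarTower.toAlgHom k B' (DualNumber B')
  let g : A →ₐ[k] DualNumber k := (evAt eq (dptIso (R := k) k) z.1).ofConv
  -- the point of the torus
  have hP : evAt eq (dIso φ0) (LieS.proj B' _ ≫ (VecGrp.ptIso φ0).hom ≫ t ≫ i) =
      toConv ((inlA.comp χ).comp (φ : A →ₐ[k] TB k r)) := by
    refine WithConv.ofConv_injective (AlgHom.ext fun x => ?_)
    rw [evAt_comp eq (e1Iso φ0) (dIso φ0) (algebraMap B' (DualNumber B'))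
      (LieS.proj B' (Spec.map (CommRingCat.ofHom φ0.toRingHom) ≫ f₀)) (by
        simp only [Over.comp_left]
        show 𝟙 _ ≫ Spec.map _ ≫ 𝟙 _ ≫ 𝟙 _ = _
        simp) _ x]
    show algebraMap B' (DualNumber B') _ = algebraMap B' (DualNumber B') (χ (φ x))
    congr 1
    have e2 : evAt eq (e1Iso φ0) ((VecGrp.ptIso φ0).hom ≫ t ≫ i) = pre φ (ofPt t') := by
      refine Spec.mapMulEquiv.injective ?_
      show toPt (ofPt ((e1Iso φ0).inv ≫ ((VecGrp.ptIso φ0).hom ≫ t ≫ i) ≫ eq.hom)) = toPt (pre φ (ofPt t'))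
      rw [toPt_ofPt, toPt_pre, toPt_ofPt, hφ, ← Category.assoc (VecGrp.ptIso φ0).hom, ht]
      simp only [Category.assoc, Iso.inv_hom_id_assoc]
    rw [e2]
    rfl
  have hZ : evAt eq (dIso φ0) (LieS.pull G _ φ0.toRingHom z).1 = toConv ((bcAlg φ0).comp g) := by
    refine WithConv.ofConv_injective (AlgHom.ext fun x => ?_)
    exact evAt_comp eq (dptIso (R := k) k) (dIso φ0) (bcHom φ0.toRingHom) (LieS.dptMap f₀ φ0.toRingHom) (by
      simp only [Over.comp_left]
      show 𝟙 _ ≫ Spec.map _ ≫ 𝟙 _ = _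
      simp) z.1 x
  -- the universal conjugate
  let ev : AddMonoidAlgebra (DualNumber k) (Fin r → ℤ) →ₐ[k] DualNumber B' :=
    AddMonoidAlgebra.liftNCAlgHom (bcAlg φ0)
      (((inlA.comp χ : TB k r →ₐ[k] DualNumber B') : TB k r →* DualNumber B').comp
        (AddMonoidAlgebra.of k (Fin r → ℤ)))
      (fun _ _ => Commute.all _ _)
  have hev : ∀ (n : Fin r → ℤ) (c : DualNumber k), ev (single n c) = bcAlg φ0 c * inlA (χ (single n 1)) := fun n c => by
    show AddMonoidAlgebra.liftNC _ _ (single n c) = _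
    rw [AddMonoidAlgebra.liftNC_single]
    rfl
  have h1 : pmap ev (torP φ (DualNumber k)) = toConv ((inlA.comp χ).comp (φ : A →ₐ[k] TB k r)) := by
    refine WithConv.ext (AlgHom.ext fun x => ?_)
    show ev (mapAlgHom _ (Algebra.ofId k (DualNumber k)) (φ x)) = inlA (χ (φ x))
    generalize φ x = y
    induction y using AddMonoidAlgebra.induction_linear with
    | zero => simp
    | add u v hu hv => simp only [map_add, hu, hv]
    | single n c =>
      rw [mapAlgHom_single, hev, Algebra.ofId_apply, AlgHom.commutes,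
        show (single n c : TB k r) = c • single n 1 by rw [AddMonoidAlgebra.smul_single', _root_.mul_one], map_smul,
        map_smul, Algebra.smul_def]
  have h2 : pmap ev (pmap (cstM (M := Fin r → ℤ) (DualNumber k)) (toConv g)) = toConv ((bcAlg φ0).comp g) := by
    refine WithConv.ext (AlgHom.ext fun x => ?_)
    show ev (single 0 (g x)) = bcAlg φ0 (g x)
    rw [hev, ← AddMonoidAlgebra.one_def, map_one, map_one, _root_.mul_one]
  have key : evAt eq (dIso φ0) (LieS.Ad G B' _ ((VecGrp.ptIso φ0).hom ≫ t ≫ i)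
      (LieS.pull G _ φ0.toRingHom z)).1 = pmap (k := k) ev (pmap (k := k) (C := AddMonoidAlgebra A (Fin r → ℤ))
        (D := AddMonoidAlgebra (DualNumber k) (Fin r → ℤ)) (mapAlgHom (Fin r → ℤ) g) (toConv (torO φ))) := by
    rw [mapAlgHom_torO, map_mul, map_mul, map_inv, h1, h2, ← hP, ← hZ]
    show evHom eq (dIso φ0) _ = evHom eq (dIso φ0) _ * evHom eq (dIso φ0) _ * (evHom eq (dIso φ0) _)⁻¹
    rw [← map_inv, ← map_mul, ← map_mul]
    rfl
  rw [key]
  show (ev (mapAlgHom (Fin r → ℤ) g (torO φ a))).snd = _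
  conv_lhs => rw [show torO φ a = ∑ n ∈ (torO φ a).coeff.support, single n (piece φ n a) from
    (AddMonoidAlgebra.sum_single (torO φ a)).symm]
  rw [map_sum, map_sum, TrivSqZeroExt.snd_sum]
  refine Finset.sum_congr rfl fun n _ => ?_
  rw [mapAlgHom_single, hev]
  simp [bcAlg, bcHom, inlA, g, χ, wOf, TrivSqZeroExt.algebraMap_eq_inl', TrivSqZeroExt.snd_mul]

/-- the value of a character -/
theorem chiVal_chT {B' : Type u} [CommRing B'] [Algebra k B'] (φ0 : k →ₐ[k] B') (m : Fin r → ℤ)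
    (t : VecGrp.pt k B' ⟶ T) (t' : SP k B' ⟶ TT k r)
    (ht : ((VecGrp.ptIso φ0).hom ≫ t) = (e1Iso φ0).hom ≫ t' ≫ e.hom) :
    VecGrp.chiVal (e.inv ≫ chT k m) t = (ofPt t').ofConv (single m 1) := by
  let p0 : VecGrp.pt k B' ≅ SP k B' := Over.isoMk (Iso.refl (Spec (CommRingCat.of B'))) (Category.id_comp _)
  have htt : t = p0.hom ≫ t' ≫ e.hom := by
    rw [← cancel_epi (VecGrp.ptIso φ0).hom, ht]
    simp [e1Iso, p0]
  show (Scheme.ΓSpecIso (CommRingCat.of B')).hom (Red.gmFn (t ≫ e.inv ≫ chT k m)) = _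
  have e2 : Red.gmFn (t ≫ e.inv ≫ chT k m) = Red.gmFn (t' ≫ chT k m) := by
    rw [htt, Category.assoc, Category.assoc, Iso.hom_inv_id_assoc]
    show ((p0.hom ≫ t' ≫ chT k m).left ≫ pullback.fst _ _).appTop Red.gmCoord = _
    rw [show (p0.hom ≫ t' ≫ chT k m).left = (t' ≫ chT k m).left from Category.id_comp _]
    rfl
  rw [e2, gmFn_chT]
  exact Iso.inv_hom_id_apply _ _

/-- **weight spaces on the Lie algebra are spaces of tangent vectors of a given weight** -/
theorem mem_weightSpOf_iff (hφ : sp φ = e.hom ≫ i ≫ eq.hom) (m : Fin r → ℤ) (z : LieS.LieR G k) :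
    z ∈ LieWt.weightSpOf i (e.inv ≫ chT k m) k ↔ wOf eq z.1 ∈ Wt φ m := by
  classical
  have hrhs : ∀ {B' : Type u} [CommRing B'] [Algebra k B'] (φ0 : k →ₐ[k] B') (c : B') (a : A),
      ((evAt eq (dIso φ0) (c • LieS.pull G _ φ0.toRingHom z).1).ofConv a).snd = c * φ0 (wOf eq z.1 a) := by
    intro B' _ _ φ0 c a
    show ((evAt eq (dIso φ0) (scale B' _ c ≫ (LieS.dptMap f₀ φ0.toRingHom ≫ z.1))).ofConv a).snd = _
    rw [evAt_comp eq (dIso φ0) (dIso φ0) (scaleHom c) (scale B' _ c) (by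
      simp only [Over.comp_left]
      show 𝟙 _ ≫ Spec.map _ ≫ 𝟙 _ = _
      simp) _ a, evAt_comp eq (dptIso (R := k) k) (dIso φ0) (bcHom φ0.toRingHom) (LieS.dptMap f₀ φ0.toRingHom) (by
      simp only [Over.comp_left]
      show 𝟙 _ ≫ Spec.map _ ≫ 𝟙 _ = _
      simp) z.1 a]
    simp [scaleHom, bcHom, wOf, TrivSqZeroExt.algebraMap_eq_inl', mul_comm]
  constructor
  · intro hz
    refine ⟨isTangent_wOf eq z, fun n a hn => ?_⟩
    let φ0 : k →ₐ[k] TB k r := Algebra.ofId k (TB k r)
    let p0 : VecGrp.pt k (TB k r) ≅ SP k (TB k r) :=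
      Over.isoMk (Iso.refl (Spec (CommRingCat.of (TB k r)))) (Category.id_comp _)
    let t : VecGrp.pt k (TB k r) ⟶ T := p0.hom ≫ e.hom
    have ht : ((VecGrp.ptIso φ0).hom ≫ t) = (e1Iso φ0).hom ≫ (𝟙 (TT k r) : SP k (TB k r) ⟶ TT k r) ≫ e.hom := by
      simp [t, e1Iso, p0]
    have hz' := hz (TB k r) φ0 t
    have h := congrArg (fun x => ((evAt eq (dIso φ0) x.1).ofConv a).snd) hz'
    simp only at h
    rw [snd_evAt_Ad e hφ z φ0 t _ ht a, hrhs, chiVal_chT e φ0 m t _ ht] at h
    have e3 : (ofPt (𝟙 (TT k r) : SP k (TB k r) ⟶ TT k r)) = toConv (AlgHom.id k (TB k r)) :=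
      Spec.mapMulEquiv.injective (by
        show toPt (ofPt _) = toPt _
        rw [toPt_ofPt]
        exact (Over.OverMorphism.ext (Spec.map_id _)).symm)
    rw [e3] at h
    change (∑ l ∈ (torO φ a).coeff.support, algebraMap k (TB k r) (wOf eq z.1 (piece φ l a)) * single l 1) =
      single m 1 * algebraMap k (TB k r) (wOf eq z.1 a) at h
    simp only [AddMonoidAlgebra.coe_algebraMap, Function.comp_apply, Algebra.algebraMap_self, RingHom.id_apply,
      AddMonoidAlgebra.single_mul_single, zero_add, add_zero, _root_.mul_one, _root_.one_mul] at h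
    have h' := congrArg (fun x : TB k r => x.coeff n) h
    simp only [AddMonoidAlgebra.coeff_sum, Finset.sum_apply', AddMonoidAlgebra.coeff_single_apply,
      if_neg (Ne.symm hn), Finset.sum_ite_eq'] at h'
    split_ifs at h' with hs
    · exact h'
    · rw [piece, Finsupp.notMem_support_iff.1 hs, map_zero]
  · intro hw B' _ _ φ0 t
    let p0 : VecGrp.pt k B' ≅ SP k B' := Over.isoMk (Iso.refl (Spec (CommRingCat.of B'))) (Category.id_comp _)
    let t' : SP k B' ⟶ TT k r := p0.inv ≫ t ≫ e.inv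
    have ht : ((VecGrp.ptIso φ0).hom ≫ t) = (e1Iso φ0).hom ≫ t' ≫ e.hom := by
      simp [t', e1Iso, p0]
    refine lie_ext eq φ0 fun a => ?_
    rw [snd_evAt_Ad e hφ z φ0 t t' ht a, hrhs]
    show _ = VecGrp.chiVal (e.inv ≫ chT k m) t * _
    rw [chiVal_chT e φ0 m t t' ht]
    by_cases hm : m ∈ (torO φ a).coeff.support
    · rw [Finset.sum_eq_single m (fun n _ hn => by rw [hw.2 n a hn, map_zero, zero_mul]) (fun h => absurd hm h),
        Wt_apply φ hw, mul_comm]
    · rw [Finset.sum_eq_zero fun n hn => by rw [hw.2 n a (fun e => hm (e ▸ hn)), map_zero, zero_mul],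
        ← Wt_apply φ hw a, piece, Finsupp.notMem_support_iff.1 hm, map_zero, map_zero, mul_zero]

theorem isRoot_iff (hφ : sp φ = e.hom ≫ i ≫ eq.hom) [IsMonHom e.inv] (m : Fin r → ℤ) :
    LieWt.IsRoot i (e.inv ≫ chT k m) ↔ m ≠ 0 ∧ Wt φ m ≠ ⊥ := by
  haveI := isMonHom_chT (k := k) m
  have hbot : LieWt.weightSpOf i (e.inv ≫ chT k m) k ≠ ⊥ ↔ Wt φ m ≠ ⊥ := by
    constructor
    · intro h
      obtain ⟨z, hz, hz1⟩ := (Subgroup.bot_or_exists_ne_one _).resolve_left h
      refine (Submodule.ne_bot_iff _).2 ⟨_, (mem_weightSpOf_iff e hφ m z).1 hz, fun h0 => hz1 ?_⟩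
      refine wOf_injective eq (show wOf eq z.1 = wOf eq (1 : LieS.LieR G k).1 from ?_)
      have h2 := wOf_mul eq (1 : LieS.LieR G k) 1
      rw [_root_.mul_one] at h2
      rw [h0, left_eq_add.1 h2]
    · intro h
      obtain ⟨w, hw, hw0⟩ := Submodule.exists_mem_ne_zero_of_ne_bot h
      let z : LieS.LieR G k := ⟨liePt eq hw.1, liePt_mem eq hw.1⟩
      have hz : wOf eq z.1 = w := LinearMap.ext fun a => by
        show ((evAt eq (dptIso (R := k) k) (liePt eq hw.1)).ofConv a).snd = w a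
        rw [evAt_liePt]
        exact snd_dualPt hw.1 a
      intro hb
      have h1 : z ∈ LieWt.weightSpOf i (e.inv ≫ chT k m) k := (mem_weightSpOf_iff e hφ m z).2 (hz ▸ hw)
      rw [hb, Subgroup.mem_bot] at h1
      have h2 := wOf_mul eq (1 : LieS.LieR G k) 1
      rw [_root_.mul_one] at h2
      exact hw0 (by rw [← hz, h1, left_eq_add.1 h2])
  have hne : e.inv ≫ chT k m = 1 ↔ m = 0 := by
    rw [← MonObj.comp_one e.inv, cancel_epi, ← chT_zero]
    exact chT_injective.eq_iff
  rw [LieWt.IsRoot, hbot, Ne, hne]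
  exact ⟨fun h => ⟨h.2.1, h.2.2⟩, fun h => ⟨inferInstanceAs (IsMonHom (e.inv ≫ chT k m)), h.1, h.2⟩⟩

theorem finrank_modelWeightSpOf (hφ : sp φ = e.hom ≫ i ≫ eq.hom) (m : Fin r → ℤ) {L : Type v} [LieRing L]
    [LieAlgebra k L] (md : LieS.Model G k f₀ L) :
    Module.finrank k (LieWt.modelWeightSpOf md i (e.inv ≫ chT k m)) = Module.finrank k (Wt φ m) := by
  let F : LieWt.modelWeightSpOf md i (e.inv ≫ chT k m) →ₗ[k] Wt φ m :=
    { toFun := fun x => ⟨wOf eq (md.e (Multiplicative.ofAdd x.1)).1, (mem_weightSpOf_iff e hφ m _).1 x.2⟩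
      map_add' := fun x y => Subtype.ext (by
        show wOf eq (md.e (Multiplicative.ofAdd (x.1 + y.1))).1 = _
        rw [ofAdd_add, map_mul, wOf_mul]; rfl)
      map_smul' := fun c x => Subtype.ext (by
        show wOf eq (md.e (Multiplicative.ofAdd (c • x.1))).1 = _
        rw [md.e_smul, wOf_smul]; rfl) }
  have hinj : Function.Injective F := fun x y h =>
    Subtype.ext (Multiplicative.ofAdd.injective (md.e.injective (wOf_injective eq (congrArg Subtype.val h))))
  have hsurj : Function.Surjective F := fun w => by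
    let z : LieS.LieR G k := ⟨liePt eq w.2.1, liePt_mem eq w.2.1⟩
    have hz : wOf eq z.1 = w.1 := LinearMap.ext fun a => by
      show ((evAt eq (dptIso (R := k) k) (liePt eq w.2.1)).ofConv a).snd = w.1 a
      rw [evAt_liePt]
      exact snd_dualPt w.2.1 a
    refine ⟨⟨Multiplicative.toAdd (md.e.symm z), ?_⟩, Subtype.ext ?_⟩
    · show md.e (Multiplicative.ofAdd _) ∈ LieWt.weightSpOf i _ k
      rw [ofAdd_toAdd, MulEquiv.apply_symm_apply]
      exact (mem_weightSpOf_iff e hφ m z).2 (hz ▸ w.2)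
    · show wOf eq (md.e (Multiplicative.ofAdd _)).1 = w.1
      rw [ofAdd_toAdd, MulEquiv.apply_symm_apply, hz]
  exact (LinearEquiv.ofBijective F ⟨hinj, hsurj⟩).finrank_eq

end Bridge

end Groth.L06.RootLines
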