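import Groth.Agent.L06.RootLines.Roots
import Groth.Agent.L14.Luna.CentUnip
import Groth.Agent.L14.Luna.Radical
import Groth.Agent.L25.RedField.Unipotent
import Groth.Agent.L25.RedField.WeylInvariant
import Groth.Agent.S8091
import Mathlib.RingTheory.Ideal.IdempotentFG

/-!
# A group is reductive when the centralizers of its root tori are
-/

set_option autoImplicit false
set_option linter.unusedSectionVars false
set_option linter.style.haveILetI false
set_option backward.isDefEq.respectTransparency.types false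
set_option maxHeartbeats 1000000

universe u

open CategoryTheory CategoryTheory.Limits MonoidalCategory CartesianMonoidalCategory MonObj GrpObj AlgebraicGeometry
open WithConv Groth.L06.CoxeterElt
open Groth.L25.Bridge (P)
open Groth.L08.TorusQuot (sp sp_left sp_comp exists_sp toPt ofPt toPt_ofPt toPt_pre toPt_post SP pre spA post)
open Groth.L08.Borel
open Groth.L25.Dyn (torO torP cstM pmap mapAlgHom_torO)
open AddMonoidAlgebra (mapAlgHom mapAlgHom_single)
open Groth.L08.AugGraded (IsTangent)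
open Groth.L24.TorusField (dualPt fst_dualPt snd_dualPt)

noncomputable section

namespace Groth.L06.RootLines

variable {k : Type u} [Field k] [IsAlgClosed k]

section Algebra

variable {A : Type u} [CommRing A] [HopfAlgebra k A] [Algebra.FiniteType k A]

/-- a domain without tangent vectors at the counit consists of constants -/
theorem counit_of_Tan_eq_zero [IsDomain A] (h : ∀ w : A →ₗ[k] k, IsTangent k A w → w = 0) (a : A) :
    a = algebraMap k A (Bialgebra.counitAlgHom k A a) := by
  haveI : IsNoetherianRing A := Algebra.FiniteType.isNoetherianRing k A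
  have hidem : IsIdempotentElem (aug k A) := by
    refine le_antisymm Ideal.mul_le_right fun x hx => ?_
    by_contra hne
    rw [← pow_two] at hne
    let S : Submodule k A := (aug k A ^ 2).restrictScalars k ⊔ Submodule.span k {(1 : A)}
    have hx' : x ∉ S := by
      intro hS
      obtain ⟨u, hu, v, hv, e⟩ := Submodule.mem_sup.1 hS
      obtain ⟨c, rfl⟩ := Submodule.mem_span_singleton.1 hv
      have h1 := congrArg (Bialgebra.counitAlgHom k A) e
      rw [map_add, RingHom.mem_ker.1 hx, RingHom.mem_ker.1 (Ideal.pow_le_self two_ne_zero hu), map_smul, map_one,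
        zero_add, smul_eq_mul, _root_.mul_one] at h1
      rw [h1, zero_smul, add_zero] at e
      exact hne (e ▸ hu)
    obtain ⟨f, hf, hfS⟩ := Submodule.exists_dual_map_eq_bot_of_notMem hx' inferInstance
    have hz : ∀ z ∈ S, f z = 0 := fun z hz => by
      have : f z ∈ S.map f := ⟨z, hz, rfl⟩
      rwa [hfS, Submodule.mem_bot] at this
    have hft : IsTangent k A f := isTangent_of_sq
      (hz _ (le_sup_right (α := Submodule k A) (Submodule.mem_span_singleton_self _)))
      fun z hz' => hz z (le_sup_left (α := Submodule k A) hz')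
    exact hf (by rw [h f hft]; rfl)
  rcases (Ideal.isIdempotentElem_iff_eq_bot_or_top _ (IsNoetherian.noetherian _)).1 hidem with h0 | h0
  · have h1 : a - algebraMap k A (Bialgebra.counitAlgHom k A a) ∈ aug k A := Groth.L08.AugGraded.sub_mem a
    rw [h0, Ideal.mem_bot] at h1
    exact sub_eq_zero.1 h1
  · have h1 : (1 : A) ∈ aug k A := h0 ▸ Submodule.mem_top
    rw [RingHom.mem_ker, map_one] at h1
    exact absurd h1 one_ne_zero

end Algebra

/-- conjugates of points of a normal subgroup lie in it -/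
theorem exists_factor_conj {G U : Over (Spec (CommRingCat.of k))} [GrpObj G] [GrpObj U] {A E : Type u} [CommRing A]
    [HopfAlgebra k A] [CommRing E] [HopfAlgebra k E] (jG : G ≅ P k A) [IsMonHom jG.hom] (jU : U ≅ P k E)
    {u : U ⟶ G} (hn : AlgGrp.IsNormalHom u) {ψ : A →ₐc[k] E} (hψ : sp ψ = jU.inv ≫ u ≫ jG.hom)
    {C R : Type u} [CommRing C] [Algebra k C] [CommRing R] [Algebra k R] (cs : C →ₐ[k] R)
    (g : Groth.L25.Dyn.Pt (k := k) A R) (x : Groth.L25.Dyn.Pt (k := k) E C) :
    ∃ y : E →ₐ[k] R, pre ψ (toConv y) = g * pmap (k := k) cs (pre ψ x) * g⁻¹ := by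
  obtain ⟨y, hy⟩ := hn _ (toPt g ≫ jG.inv) (spA cs ≫ toPt x ≫ jU.inv)
  refine ⟨(ofPt (y ≫ jU.hom)).ofConv, Spec.mapMulEquiv.injective ?_⟩
  show toPt (pre ψ (ofPt (y ≫ jU.hom))) = toPt _
  rw [toPt_pre, toPt_ofPt, hψ, Category.assoc, Iso.hom_inv_id_assoc, ← Category.assoc, ← hy,
    MonObj.mul_comp, MonObj.mul_comp, GrpObj.inv_comp]
  simp only [Category.assoc, Iso.inv_hom_id, Category.comp_id]
  show _ = Spec.mapMulEquiv _
  rw [map_mul, map_mul, map_inv]
  have e : toPt (pmap (k := k) cs (pre ψ x)) = spA cs ≫ toPt x ≫ jU.inv ≫ u ≫ jG.hom := by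
    rw [← hψ, ← toPt_pre]
    exact toPt_post cs _
  rw [← e]

variable {G T : Over (Spec (CommRingCat.of k))} [GrpObj G] [GrpObj T] {i : T ⟶ G}

/-- without weights the torus is the whole group -/
theorem isIso_of_no_weight [Smooth G.hom] [ConnectedSpace G.left] (D : Coords G T i) (hT : AGF.IsMaxTorus i)
    (hZT : Red.IsCentralizerOf i i) (h : ∀ a, a ≠ 0 → Wt D.φ a = ⊥) : IsIso i := by
  haveI : IsIso D.eq.hom := D.eq.isIso_hom
  haveI := hT.2.1
  haveI : IsDomain D.A := Groth.L25.Observable.isDomain D.eq.hom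
  haveI : IsNoetherianRing D.A := Algebra.FiniteType.isNoetherianRing k D.A
  have hzero : ∀ m b, m ≠ 0 → piece D.φ m b = 0 := fun m b hm => by
    obtain ⟨w, hw⟩ := exists_injOn (insert m {(0 : Fin D.r → ℤ)})
    have hwm : w m ≠ 0 := fun e => hm (hw (by simp) (by simp) (by rw [e, map_zero]))
    by_contra hx
    obtain ⟨a, y, hwa, hy⟩ := exists_weight D.φ w hwm hx
    have ha : a ≠ 0 := fun e => hwa (by rw [e, map_zero])
    exact ((Wt_ne_bot_iff D.φ ha).2 ⟨y, hy⟩) (h a ha)
  have hcom : Groth.L25.Dyn.TorCommutes ((md k (AddMonoidHom.id (Fin D.r → ℤ))).comp D.φ) (AlgHom.id k D.A) :=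
    torCommutes_of_pieces D.φ (AddMonoidHom.id (Fin D.r → ℤ)) _ fun i b hi => hzero i b hi
  obtain ⟨z, hz⟩ := (hZT.2.2 _ (𝟙 G)).2 fun X x s => by
    have h := commute_of_torCommutes D.φ (AddMonoidHom.id _) hcom (x ≫ D.eq.hom) (s ≫ D.e.inv)
    have e : toPt (toConv (AlgHom.id k D.A)) = 𝟙 (P k D.A) := Over.OverMorphism.ext (Spec.map_id _)
    rw [e, Category.comp_id, dP_id, Category.id_comp, D.hφ] at h
    simp only [Category.assoc, Iso.inv_hom_id_assoc] at h
    rw [Category.comp_id, ← cancel_mono D.eq.hom]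
    simp only [MonObj.mul_comp, Category.assoc]
    exact h
  exact ⟨z, by rw [← cancel_mono i, Category.assoc, hz, Category.id_comp, Category.comp_id], hz⟩

/-- a normal subgroup without subtori is trivial when its traces on the root centralizers are -/
theorem id_eq_one_of_traces [IsAffine G.left] [Smooth G.hom] [ConnectedSpace G.left] (D : Coords G T i)
    {a₁ : Fin D.r → ℤ} (ha₁ : a₁ ≠ 0) (hW₁ : Wt D.φ a₁ ≠ ⊥)
    {U : Over (Spec (CommRingCat.of k))} [GrpObj U] (u : U ⟶ G) [IsMonHom u] [IsClosedImmersion u.left]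
    [Smooth U.hom] [ConnectedSpace U.left] (hn : AlgGrp.IsNormalHom u)
    (htrace : ∀ a : Fin D.r → ℤ, a ≠ 0 → Wt D.φ a ≠ ⊥ → ∃ (r' : ℕ) (p : (Fin D.r → ℤ) →+ (Fin r' → ℤ)), p a = 0 ∧
      ∀ (X : Over (Spec (CommRingCat.of k))) (x : X ⟶ U),
        (∀ (Y : Over (Spec (CommRingCat.of k))) (y : Y ⟶ X) (s : Y ⟶ TT k r'),
          (y ≫ x ≫ u) * (s ≫ dP k p ≫ D.e.hom ≫ i) = (s ≫ dP k p ≫ D.e.hom ≫ i) * (y ≫ x ≫ u)) → x = 1) :
    𝟙 U = 1 := by
  classical
  haveI : Mono u := Groth.L08.mono_of_closedImmersion u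
  haveI : IsAffine U.left := isAffine_of_isAffineHom u.left
  haveI : IsAffineHom U.hom := isAffineHom_of_isAffine _
  obtain ⟨E, _, _, ⟨eU⟩⟩ := Groth.L25.Bridge.exists_hopf U
  let jU : U ≅ P k E := (Grp.forget _).mapIso eU
  haveI : IsMonHom jU.hom := eU.hom.hom.isMonHom_hom
  haveI : IsMonHom jU.inv := eU.inv.hom.isMonHom_hom
  haveI : IsIso jU.hom := jU.isIso_hom
  haveI : IsIso D.eq.hom := D.eq.isIso_hom
  haveI : IsIso D.eq.hom.left := inferInstanceAs (IsIso ((Over.forget _).map D.eq.hom))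
  haveI : IsIso jU.inv.left := inferInstanceAs (IsIso ((Over.forget _).map jU.inv))
  obtain ⟨hftU, -⟩ := smooth_props jU.hom
  haveI := hftU
  obtain ⟨ψ, hψ⟩ := exists_sp (jU.inv ≫ u ≫ D.eq.hom)
  have hψs : Function.Surjective ψ := by
    haveI : IsClosedImmersion (sp ψ).left := by
      rw [hψ]; exact inferInstanceAs (IsClosedImmersion (jU.inv.left ≫ u.left ≫ D.eq.hom.left))
    exact surjective_of_closedImm
  haveI : IsDomain E := Groth.L25.Observable.isDomain jU.hom
  -- a tangent vector of the subgroup as a point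
  let uq : {w : E →ₗ[k] k // IsTangent k E w} → (SP k (DualNumber k) ⟶ U) := fun w =>
    toPt (toConv (dualPt w.2)) ≫ jU.inv
  have huq : ∀ w, uq w ≫ u ≫ D.eq.hom = toPt (pre ψ (toConv (dualPt w.2))) := fun w => by
    rw [toPt_pre, hψ]; simp [uq]
  have hε : ∀ b, Bialgebra.counitAlgHom k E (ψ b) = Bialgebra.counitAlgHom k D.A b := fun b =>
    CoalgHomClass.counit_comp_apply ψ b
  -- the components of a tangent vector of the subgroup are again tangent to it
  have hcomp : ∀ (w : E →ₗ[k] k), IsTangent k E w → ∀ m, ∃ w' : E →ₗ[k] k, IsTangent k E w' ∧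
      ∀ b, w' (ψ b) = w (ψ (piece D.φ m b)) := by
    intro w hw m
    let q : D.A →ₐ[k] DualNumber k := (pre ψ (toConv (dualPt hw))).ofConv
    let R := AddMonoidAlgebra (DualNumber k) (Fin D.r → ℤ)
    let cs : DualNumber k →ₐ[k] R := cstM (M := Fin D.r → ℤ) (DualNumber k)
    obtain ⟨g', hkey⟩ := exists_factor_conj D.eq jU hn hψ cs (torP D.φ (DualNumber k)) (toConv (dualPt hw))
    have hg' : ∀ b, g' (ψ b) = mapAlgHom (Fin D.r → ℤ) q (torO D.φ b) := fun b => by
      have h := DFunLike.congr_fun (congrArg WithConv.ofConv (hkey.trans (mapAlgHom_torO D.φ q).symm)) b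
      exact h
    let w' : E →ₗ[k] k :=
      { toFun := fun e => ((g' e).coeff m).snd
        map_add' := fun a b => by simp
        map_smul' := fun c a => by simp }
    have hw' : ∀ b, w' (ψ b) = w (ψ (piece D.φ m b)) := fun b => by
      show ((g' (ψ b)).coeff m).snd = _
      rw [hg']
      simp only [AddMonoidAlgebra.coeff_mapAlgHom, piece]
      exact snd_dualPt hw _
    refine ⟨w', fun e e' => ?_, hw'⟩
    obtain ⟨b, rfl⟩ := hψs e
    obtain ⟨b', rfl⟩ := hψs e'
    rw [← map_mul, hw', hw', hw', hε, hε]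
    exact (comp_mem_Wt D.φ (isTangent_comp ψ hw) m).1 b b'
  -- every tangent vector of the subgroup vanishes
  have hTan : ∀ w : E →ₗ[k] k, IsTangent k E w → w = 0 := by
    intro w hw
    have hw0 : ∀ m b, w (ψ (piece D.φ m b)) = 0 := by
      intro m b
      obtain ⟨a, ha, hWa, hm⟩ : ∃ a, a ≠ 0 ∧ Wt D.φ a ≠ ⊥ ∧ (m = 0 ∨ m = a) ∨
          ∀ b, w (ψ (piece D.φ m b)) = 0 := by
        by_cases hm0 : m = 0
        · exact ⟨a₁, Or.inl ⟨ha₁, hW₁, Or.inl hm0⟩⟩
        by_cases hWm : Wt D.φ m = ⊥
        · refine ⟨a₁, Or.inr fun b => ?_⟩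
          have h := comp_mem_Wt D.φ (isTangent_comp ψ hw) m
          rw [hWm, Submodule.mem_bot] at h
          exact LinearMap.congr_fun h b
        · exact ⟨m, Or.inl ⟨hm0, hWm, Or.inr rfl⟩⟩
      swap
      · rename_i h; exact h b
      obtain ⟨r', p, hpa, htr⟩ := htrace a ha hWa
      have hpm : p m = 0 := by
        rcases hm with rfl | rfl
        · exact map_zero p
        · exact hpa
      obtain ⟨w', hw', hw'ψ⟩ := hcomp w hw m
      have hq : Groth.L25.Dyn.TorCommutes ((md k p).comp D.φ) (pre ψ (toConv (dualPt hw'))).ofConv :=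
        torCommutes_of_pieces D.φ p _ fun i c hi => by
          have hi0 : i ≠ 0 := fun e => hi (by rw [e, map_zero])
          have him : i ≠ m := fun e => hi (e ▸ hpm)
          show dualPt hw' (ψ (piece D.φ i c)) = 0
          refine TrivSqZeroExt.ext ?_ ?_
          · rw [fst_dualPt, TrivSqZeroExt.fst_zero]
            exact (hε _).trans (RingHom.mem_ker.1 (counit_piece D.φ hi0 c))
          · rw [snd_dualPt, TrivSqZeroExt.snd_zero, hw'ψ, piece_piece, if_neg (Ne.symm (Ne.symm him)), map_zero,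
              map_zero]
      have h1 : uq ⟨w', hw'⟩ = 1 := htr _ _ fun Y y s => by
        have h := commute_of_torCommutes D.φ p hq y s
        rw [D.hφ] at h
        rw [← cancel_mono D.eq.hom]
        simp only [MonObj.mul_comp, Category.assoc, huq]
        exact h
      have h2 : toPt (toConv (dualPt hw')) = 1 := by
        have h := congrArg (· ≫ jU.hom) h1
        simpa [uq, MonObj.one_comp] using h
      have h3 : toConv (dualPt hw') = (1 : WithConv (E →ₐ[k] DualNumber k)) :=
        Spec.mapMulEquiv.injective (h2.trans (map_one _).symm)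
      have h4 := congrArg (fun χ => (χ.ofConv (ψ b)).snd) h3
      simp only [snd_dualPt, hw'ψ, AlgHom.convOne_apply] at h4
      rw [h4]
      simp [TrivSqZeroExt.algebraMap_eq_inl']
    refine LinearMap.ext fun e => ?_
    obtain ⟨b, rfl⟩ := hψs e
    rw [← sum_piece D.φ b, map_sum, map_sum, LinearMap.zero_apply]
    exact Finset.sum_eq_zero fun m _ => hw0 m b
  -- conclusion
  have hid : toConv (AlgHom.id k E) = (1 : WithConv (E →ₐ[k] E)) := by
    refine WithConv.ofConv_injective (AlgHom.ext fun e => ?_)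
    rw [AlgHom.convOne_apply]
    exact counit_of_Tan_eq_zero hTan e
  have e1 : toPt (toConv (AlgHom.id k E)) = 𝟙 (P k E) := Over.OverMorphism.ext (Spec.map_id _)
  have e2 : 𝟙 (P k E) = (1 : P k E ⟶ P k E) := by rw [← e1, hid]; exact map_one _
  rw [← cancel_mono jU.hom, Category.id_comp, MonObj.one_comp, ← Category.comp_id jU.hom, e2, MonObj.comp_one]

end Groth.L06.RootLines
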