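import Groth.Agent.L06.CoxeterElt.Weights
import Groth.Agent.L08.TorusQuot.Affine
import Groth.Agent.L08.HopfSmooth
import Mathlib.RingTheory.HopfAlgebra.MonoidAlgebra
import Mathlib.LinearAlgebra.FiniteDimensional.Basic

/-!
# Weight spaces of a split torus on the tangent vectors at the counit
-/

set_option autoImplicit false
set_option linter.unusedSectionVars false
set_option linter.style.haveILetI false
set_option linter.deprecated false
set_option backward.isDefEq.respectTransparency.types false
set_option maxHeartbeats 1000000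

universe u

open TensorProduct WithConv AddMonoidAlgebra Groth.L25.Dyn Groth.L06.CoxeterElt Groth.L08.AugGraded

noncomputable section

namespace Groth.L06.RootLines

variable {K : Type u} [Field K] {A : Type u} [CommRing A] [HopfAlgebra K A]

theorem isTangent_one {w : A →ₗ[K] K} (hw : IsTangent K A w) : w 1 = 0 := by
  simpa using hw 1 1

theorem isTangent_sq {w : A →ₗ[K] K} (hw : IsTangent K A w) {z : A} (hz : z ∈ aug K A ^ 2) : w z = 0 := by
  rw [pow_two] at hz
  refine Submodule.mul_induction_on hz (fun a ha b hb => ?_) (fun a b ha hb => by rw [map_add, ha, hb, add_zero])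
  rw [hw, RingHom.mem_ker.1 ha, RingHom.mem_ker.1 hb, zero_mul, zero_mul, add_zero]

theorem isTangent_of_sq {w : A →ₗ[K] K} (h1 : w 1 = 0) (h2 : ∀ z ∈ aug K A ^ 2, w z = 0) : IsTangent K A w := by
  intro a b
  have hc : ∀ c : K, w (algebraMap K A c) = 0 := fun c => by
    rw [Algebra.algebraMap_eq_smul_one, map_smul, h1, smul_zero]
  have h := h2 _ (by rw [pow_two]; exact Ideal.mul_mem_mul (sub_mem (k := K) a) (sub_mem (k := K) b))
  set c := Bialgebra.counitAlgHom K A a
  set d := Bialgebra.counitAlgHom K A b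
  rw [show (a - algebraMap K A c) * (b - algebraMap K A d) =
    a * b - c • b - d • a + algebraMap K A (c * d) from by simp [Algebra.smul_def, map_mul]; ring] at h
  simp only [map_add, map_sub, map_smul, smul_eq_mul, hc, add_zero] at h
  linear_combination h

variable (K A) in
/-- the tangent vectors at the counit -/
def Tan : Submodule K (A →ₗ[K] K) where
  carrier := {w | IsTangent K A w}
  add_mem' {v w} hv hw a b := by simp only [LinearMap.add_apply, hv a b, hw a b]; ring
  zero_mem' a b := by simp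
  smul_mem' c {w} hw a b := by simp only [LinearMap.smul_apply, smul_eq_mul, hw a b]; ring

theorem mem_Tan {w : A →ₗ[K] K} : w ∈ Tan K A ↔ IsTangent K A w := Iff.rfl

theorem finrank_Tan [Algebra.FiniteType K A] :
    Module.Finite K (Tan K A) ∧
      Module.finrank K (Tan K A) = Module.finrank K (Ideal.Cotangent (aug K A)) := by
  classical
  obtain ⟨x, w, hx, hw, hwx, hspan⟩ := exists_coords K A
  let e : Tan K A →ₗ[K] (Fin _ → K) :=
    { toFun := fun v i => v.1 (x i), map_add' := fun u v => rfl, map_smul' := fun c v => rfl }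
  have hinj : Function.Injective e := by
    refine (injective_iff_map_eq_zero _).2 fun v hv => Subtype.ext (LinearMap.ext fun a => ?_)
    obtain ⟨g, hg⟩ := hspan _ (sub_mem (k := K) a)
    have h1 := isTangent_sq v.2 hg
    simp only [map_sub, map_sum, map_smul, Algebra.algebraMap_eq_smul_one, isTangent_one v.2, smul_zero,
      sub_zero, show ∀ i, v.1 (x i) = 0 from fun i => congrFun hv i, Finset.sum_const_zero] at h1
    simpa using h1
  have hsurj : Function.Surjective e := fun g =>
    ⟨∑ i, g i • (⟨w i, hw i⟩ : Tan K A), funext fun j => by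
      show (∑ i, g i • (⟨w i, hw i⟩ : Tan K A)).1 (x j) = g j
      simp [hwx, Finset.sum_ite_eq, eq_comm]⟩
  let e' := LinearEquiv.ofBijective e ⟨hinj, hsurj⟩
  exact ⟨Module.Finite.equiv e'.symm, by rw [e'.finrank_eq, Module.finrank_fin_fun]⟩

instance finite_Tan [Algebra.FiniteType K A] : Module.Finite K (Tan K A) := finrank_Tan.1

variable {r : ℕ} (φ : A →ₐc[K] AddMonoidAlgebra K (Fin r → ℤ))

/-- components as linear maps -/
def pieceL (m : Fin r → ℤ) : A →ₗ[K] A :=
  { toFun := piece φ m
    map_add' := fun a b => piece_add φ a b m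
    map_smul' := fun c a => by simp [piece] }

theorem pieceL_apply (m : Fin r → ℤ) (a : A) : pieceL φ m a = piece φ m a := rfl

theorem piece_piece [DecidableEq (Fin r → ℤ)] (m n : Fin r → ℤ) (a : A) :
    piece φ m (piece φ n a) = if n = m then piece φ n a else 0 := by
  show (torO φ (piece φ n a)).coeff m = _
  rw [torO_piece, coeff_single_apply]

theorem piece_one (m : Fin r → ℤ) [DecidableEq (Fin r → ℤ)] : piece φ m (1 : A) = if (0 : Fin r → ℤ) = m then 1 else 0 := by
  show (torO φ 1).coeff m = _
  rw [map_one, AddMonoidAlgebra.one_def, coeff_single_apply]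

theorem piece_sq {z : A} (hz : z ∈ aug K A ^ 2) (m : Fin r → ℤ) : piece φ m z ∈ aug K A ^ 2 := by
  rw [pow_two] at hz ⊢
  refine Submodule.mul_induction_on hz (fun a ha b hb => ?_) fun a b ha hb => ?_
  · rw [piece_mul]
    exact Ideal.sum_mem _ fun i _ => Ideal.mul_mem_mul (piece_mem_aug φ ha i) (piece_mem_aug φ hb _)
  · rw [piece_add]; exact Ideal.add_mem _ ha hb

/-- the tangent vectors of a given weight -/
def Wt (m : Fin r → ℤ) : Submodule K (A →ₗ[K] K) where
  carrier := {w | IsTangent K A w ∧ ∀ n a, n ≠ m → w (piece φ n a) = 0}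
  add_mem' {v w} hv hw := ⟨(Tan K A).add_mem hv.1 hw.1, fun n a h => by simp [hv.2 n a h, hw.2 n a h]⟩
  zero_mem' := ⟨(Tan K A).zero_mem, fun n a _ => rfl⟩
  smul_mem' c {w} hw := ⟨(Tan K A).smul_mem c hw.1, fun n a h => by simp [hw.2 n a h]⟩

theorem Wt_le (m : Fin r → ℤ) : Wt φ m ≤ Tan K A := fun _ h => h.1

theorem Wt_apply {m : Fin r → ℤ} {w : A →ₗ[K] K} (hw : w ∈ Wt φ m) (a : A) : w (piece φ m a) = w a := by
  classical
  conv_rhs => rw [← sum_piece φ a, map_sum]
  rw [Finset.sum_eq_single m (fun n _ hn => hw.2 n a hn) fun hm => by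
    rw [piece, Finsupp.notMem_support_iff.1 hm, map_zero]]

theorem comp_mem_Wt {w : A →ₗ[K] K} (hw : IsTangent K A w) (m : Fin r → ℤ) :
    w ∘ₗ pieceL φ m ∈ Wt φ m := by
  classical
  refine ⟨isTangent_of_sq ?_ fun z hz => isTangent_sq hw (piece_sq φ hz m), fun n a hn => ?_⟩
  · show w (piece φ m 1) = 0
    rw [piece_one]; split_ifs <;> simp [isTangent_one hw]
  · show w (piece φ m (piece φ n a)) = 0
    rw [piece_piece, if_neg hn, map_zero]

/-- the occurring weights are those of the cotangent space -/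
theorem Wt_ne_bot_iff {m : Fin r → ℤ} (hm : m ≠ 0) : Wt φ m ≠ ⊥ ↔ ∃ y, piece φ m y ∉ aug K A ^ 2 := by
  classical
  constructor
  · intro h
    obtain ⟨w, hw, hw0⟩ := Submodule.exists_mem_ne_zero_of_ne_bot h
    by_contra hcon
    push Not at hcon
    exact hw0 (LinearMap.ext fun a => by rw [← Wt_apply φ hw a, isTangent_sq hw.1 (hcon a)]; rfl)
  · rintro ⟨y, hy⟩
    let S : Submodule K A := (aug K A ^ 2).restrictScalars K ⊔ Submodule.span K {(1 : A)}
    have hy' : piece φ m y ∉ S := by
      intro h
      obtain ⟨u, hu, v, hv, e⟩ := Submodule.mem_sup.1 h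
      obtain ⟨c, rfl⟩ := Submodule.mem_span_singleton.1 hv
      have h1 := congrArg (Bialgebra.counitAlgHom K A) e
      rw [map_add, RingHom.mem_ker.1 (counit_piece φ hm y),
        RingHom.mem_ker.1 (Ideal.pow_le_self two_ne_zero hu), map_smul, map_one, zero_add, smul_eq_mul, mul_one] at h1
      rw [h1, zero_smul, add_zero] at e
      exact hy (e ▸ hu)
    obtain ⟨f, hf, hfS⟩ := Submodule.exists_dual_map_eq_bot_of_notMem hy' inferInstance
    have hz : ∀ z ∈ S, f z = 0 := fun z hz => by
      have : f z ∈ S.map f := ⟨z, hz, rfl⟩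
      rwa [hfS, Submodule.mem_bot] at this
    have hft : IsTangent K A f := isTangent_of_sq (hz _ (le_sup_right (α := Submodule K A) (Submodule.mem_span_singleton_self _)))
      fun z h => hz z (le_sup_left (α := Submodule K A) h)
    intro hbot
    have h := comp_mem_Wt φ hft m
    rw [hbot, Submodule.mem_bot] at h
    exact hf (LinearMap.congr_fun h y)

theorem finrank_pi_submodules {ι : Type*} [Fintype ι] {V : Type*} [AddCommGroup V] [Module K V]
    (W : ι → Submodule K V) [∀ i, Module.Finite K (W i)] :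
    Module.finrank K (∀ i, W i) = ∑ i, Module.finrank K (W i) := Module.finrank_pi_fintype K

/-- distinct weights add up -/
theorem sum_finrank_le [Algebra.FiniteType K A] (S : Finset (Fin r → ℤ)) :
    ∑ m ∈ S, Module.finrank K (Wt φ m) ≤ Module.finrank K (Tan K A) := by
  classical
  haveI : ∀ m, Module.Finite K (Wt φ m) := fun m => Submodule.finiteDimensional_of_le (Wt_le φ m)
  let f : Tan K A →ₗ[K] ((m : {m // m ∈ S}) → Wt φ m.1) :=
    { toFun := fun w m => ⟨w.1 ∘ₗ pieceL φ m.1, comp_mem_Wt φ w.2 m.1⟩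
      map_add' := fun u v => funext fun m => Subtype.ext (LinearMap.add_comp _ _ _)
      map_smul' := fun c v => funext fun m => Subtype.ext (LinearMap.smul_comp _ _ _) }
  have hf : Function.Surjective f := by
    intro g
    refine ⟨⟨∑ m : {m // m ∈ S}, (g m).1, Submodule.sum_mem _ fun m _ => Wt_le φ _ (g m).2⟩, funext fun n => ?_⟩
    refine Subtype.ext (LinearMap.ext fun a => ?_)
    show (∑ m : {m // m ∈ S}, (g m).1) (piece φ n.1 a) = (g n).1 a
    rw [LinearMap.sum_apply, Finset.sum_eq_single n (fun m _ hm => (g m).2.2 _ _ fun e => hm (Subtype.ext e.symm))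
      (fun h => absurd (Finset.mem_univ n) h), Wt_apply φ (g n).2]
  have h := LinearMap.finrank_le_finrank_of_surjective (f := f) hf
  have h2 := finrank_pi_submodules (K := K) fun m : {m // m ∈ S} => Wt φ m.1
  rw [h2] at h
  rwa [← Finset.sum_coe_sort S fun m => Module.finrank K (Wt φ m)]

/-! ### naturality -/

section Natural

variable {A' : Type u} [CommRing A'] [HopfAlgebra K A'] {φ' : A' →ₐc[K] AddMonoidAlgebra K (Fin r → ℤ)}

theorem pre_torP (ψ : A →ₐc[K] A') (h : φ'.comp ψ = φ) (C : Type u) [CommRing C] [Algebra K C] :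
    Groth.L08.TorusQuot.pre ψ (torP φ' C) = torP φ C := by
  subst h
  rfl

theorem torO_natural (ψ : A →ₐc[K] A') (h : φ'.comp ψ = φ) (a : A) :
    torO φ' (ψ a) = mapAlgHom (Fin r → ℤ) (ψ : A →ₐ[K] A') (torO φ a) := by
  have h1 := mapAlgHom_torO φ (ψ : A →ₐ[K] A')
  have h2 : Groth.L08.TorusQuot.pre ψ (toConv (torO φ')) = pmap (mapAlgHom (Fin r → ℤ) (ψ : A →ₐ[K] A')) (toConv (torO φ)) := by
    rw [h1, torO, toConv_ofConv, map_mul, map_mul, map_inv, pre_torP φ ψ h]
    rfl
  exact DFunLike.congr_fun (congrArg WithConv.ofConv h2) a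

theorem piece_natural (ψ : A →ₐc[K] A') (h : φ'.comp ψ = φ) (m : Fin r → ℤ) (a : A) :
    piece φ' m (ψ a) = ψ (piece φ m a) := by
  show (torO φ' (ψ a)).coeff m = _
  rw [torO_natural φ ψ h]
  simp [piece]

theorem isTangent_comp (ψ : A →ₐc[K] A') {w : A' →ₗ[K] K} (hw : IsTangent K A' w) :
    IsTangent K A (w ∘ₗ (ψ : A →ₐ[K] A').toLinearMap) := by
  have hc : ∀ c, Bialgebra.counitAlgHom K A' (ψ c) = Bialgebra.counitAlgHom K A c := fun c =>
    CoalgHomClass.counit_comp_apply ψ c
  intro a b
  show w (ψ (a * b)) = _ * w (ψ b) + _ * w (ψ a)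
  rw [map_mul, hw, hc, hc]

theorem comp_mem_Wt_natural (ψ : A →ₐc[K] A') (h : φ'.comp ψ = φ) {m : Fin r → ℤ} {w : A' →ₗ[K] K}
    (hw : w ∈ Wt φ' m) : w ∘ₗ (ψ : A →ₐ[K] A').toLinearMap ∈ Wt φ m :=
  ⟨isTangent_comp ψ hw.1, fun n a hn => by
    show w (ψ (piece φ n a)) = 0
    rw [← piece_natural φ ψ h]; exact hw.2 n _ hn⟩

/-- pulling tangent vectors back along a surjection -/
theorem finrank_le_of_surjective (ψ : A →ₐc[K] A') (hψ : Function.Surjective ψ) [Algebra.FiniteType K A]
    (P : Submodule K (A' →ₗ[K] K)) (Q : Submodule K (A →ₗ[K] K)) (hQ : Q ≤ Tan K A)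
    (hPQ : ∀ w ∈ P, w ∘ₗ (ψ : A →ₐ[K] A').toLinearMap ∈ Q) : Module.finrank K P ≤ Module.finrank K Q := by
  haveI : Module.Finite K Q := Submodule.finiteDimensional_of_le hQ
  let f : P →ₗ[K] Q :=
    { toFun := fun w => ⟨w.1 ∘ₗ (ψ : A →ₐ[K] A').toLinearMap, hPQ w.1 w.2⟩
      map_add' := fun u v => Subtype.ext (LinearMap.add_comp _ _ _)
      map_smul' := fun c v => Subtype.ext (LinearMap.smul_comp _ _ _) }
  refine LinearMap.finrank_le_finrank_of_injective (f := f) fun u v huv => Subtype.ext (LinearMap.ext fun a' => ?_)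
  obtain ⟨a, rfl⟩ := hψ a'
  exact LinearMap.congr_fun (congrArg Subtype.val huv) a

end Natural

/-! ### the torus -/

/-- composing with an endomorphism of characters maps components -/
theorem torO_md {r' : ℕ} (p : (Fin r → ℤ) →+ (Fin r' → ℤ)) (b : A) :
    torO ((AddMonoidAlgebra.mapDomainBialgHom K p).comp φ) b = AddMonoidAlgebra.mapDomainAlgHom K A p (torO φ b) := by
  have ht : pmap (AddMonoidAlgebra.mapDomainAlgHom K A p) (torP φ A) =
      torP ((AddMonoidAlgebra.mapDomainBialgHom K p).comp φ) A := by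
    refine WithConv.ext (AlgHom.ext fun b => ?_)
    show AddMonoidAlgebra.mapDomainAlgHom K A p (mapAlgHom _ (Algebra.ofId K A) (φ b)) =
      mapAlgHom _ (Algebra.ofId K A) (AddMonoidAlgebra.mapDomainBialgHom K p (φ b))
    generalize φ b = z
    induction z using AddMonoidAlgebra.induction_linear with
    | zero => simp
    | add u v hu hv => simp only [map_add, hu, hv]
    | single i c => simp [AddMonoidAlgebra.mapDomain_single]
  have hmd : pmap (AddMonoidAlgebra.mapDomainAlgHom K A p) (toConv (torO φ)) =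
      toConv (torO ((AddMonoidAlgebra.mapDomainBialgHom K p).comp φ)) := by
    rw [torO, torO, toConv_ofConv, toConv_ofConv, map_mul, map_mul, map_inv, ht]
    congr 2
    refine WithConv.ext (AlgHom.ext fun b => ?_)
    show AddMonoidAlgebra.mapDomainAlgHom K A p (single 0 b) = single 0 b
    rw [AddMonoidAlgebra.mapDomainAlgHom_apply, AddMonoidAlgebra.mapDomain_single, map_zero]
  exact (DFunLike.congr_fun (congrArg WithConv.ofConv hmd) b).symm

theorem piece_md (θ : (Fin r → ℤ) →+ (Fin r → ℤ)) (hθ : Function.Injective θ) (m : Fin r → ℤ) (a : A) :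
    piece ((AddMonoidAlgebra.mapDomainBialgHom K θ).comp φ) (θ m) a = piece φ m a := by
  show (torO _ a).coeff (θ m) = _
  rw [torO_md φ θ a]
  exact Finsupp.mapDomain_apply hθ _ _

/-- the torus is fixed -/
theorem torO_id (b : AddMonoidAlgebra K (Fin r → ℤ)) :
    torO (BialgHom.id K (AddMonoidAlgebra K (Fin r → ℤ))) b = single 0 b := by
  have h : toConv (torO (BialgHom.id K (AddMonoidAlgebra K (Fin r → ℤ)))) =
      pmap (cstM (M := Fin r → ℤ) (AddMonoidAlgebra K (Fin r → ℤ))) (toConv (AlgHom.id K _)) := by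
    rw [torO, toConv_ofConv, mul_inv_eq_iff_eq_mul]
    exact mul_comm _ _
  exact DFunLike.congr_fun (congrArg WithConv.ofConv h) b

/-- a split torus contributes its rank to the weight zero -/
theorem rank_le_finrank_Wt_zero [Algebra.FiniteType K A] (hφ : Function.Surjective φ) :
    r ≤ Module.finrank K (Wt φ 0) := by
  classical
  let T := AddMonoidAlgebra K (Fin r → ℤ)
  let d : Fin r → (T →ₗ[K] K) := fun i =>
    (Finsupp.lsum K fun m => LinearMap.mulRight K ((m i : ℤ) : K)) ∘ₗ (AddMonoidAlgebra.coeffLinearEquiv (M := Fin r → ℤ) (S := K) K).toLinearMap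
  have hd : ∀ i m c, d i (single m c) = c * ((m i : ℤ) : K) := fun i m c => by
    simp [d, AddMonoidAlgebra.coeffLinearEquiv]
    exact (Finsupp.sum_single_index (by simp)).trans (by simp)
  have hdt : ∀ i, IsTangent K T (d i) := fun i a b => by
    induction a using AddMonoidAlgebra.induction_linear with
    | zero => simp
    | add u v hu hv => simp only [add_mul, map_add, hu, hv]; ring
    | single m c =>
      induction b using AddMonoidAlgebra.induction_linear with
      | zero => simp
      | add u v hu hv => simp only [mul_add, map_add, hu, hv]; ring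
      | single n e =>
        rw [single_mul_single, hd, hd, hd, Bialgebra.counitAlgHom_apply, Bialgebra.counitAlgHom_apply,
          AddMonoidAlgebra.counit_single, AddMonoidAlgebra.counit_single]
        simp only [Pi.add_apply, Int.cast_add, CommSemiring.counit_apply]
        ring
  have hmem : ∀ i, d i ∘ₗ (φ : A →ₐ[K] T).toLinearMap ∈ Wt φ 0 := fun i =>
    ⟨isTangent_comp φ (hdt i), fun n a hn => by
      have h := piece_natural φ φ (BialgHom.id_comp φ) n a
      show d i (φ (piece φ n a)) = 0
      rw [← h, piece, torO_id, coeff_single_apply, if_neg (Ne.symm hn), map_zero]⟩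
  haveI : Module.Finite K (Wt φ 0) := Submodule.finiteDimensional_of_le (Wt_le φ 0)
  let L : (Fin r → K) →ₗ[K] Wt φ 0 := Fintype.linearCombination K fun i => (⟨_, hmem i⟩ : Wt φ 0)
  have hL : Function.Injective L := by
    refine (injective_iff_map_eq_zero _).2 fun g hg => funext fun j => ?_
    obtain ⟨a, ha⟩ := hφ (single (Pi.single j 1) 1)
    have h1 : ((L g : Wt φ 0) : A →ₗ[K] K) a = 0 := by rw [hg]; rfl
    rw [Fintype.linearCombination_apply, Submodule.coe_sum, LinearMap.sum_apply,
      Finset.sum_eq_single j (fun i _ hi => ?_) (fun h => absurd (Finset.mem_univ j) h)] at h1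
    · change g j * d j (φ a) = 0 at h1
      rwa [ha, hd, Pi.single_eq_same, Int.cast_one, one_mul, mul_one] at h1
    · show g i * d i (φ a) = 0
      rw [ha, hd, Pi.single_eq_of_ne hi, Int.cast_zero, mul_zero, mul_zero]
  have h := LinearMap.finrank_le_finrank_of_injective hL
  rwa [Module.finrank_fin_fun] at h

end Groth.L06.RootLines
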