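import Groth.Agent.L06.CoxeterElt.Torus
import Groth.Agent.L25.Dyn.CentConn
import Groth.Agent.L14.Luna.SemiRank.Line
import Groth.Agent.S14754
import Groth.Agent.L25.Bridge.Spec
import Groth.Prelude.Def_VecGrp

/-!
# Coordinates on split tori: comparison with diagonalisable groups
-/

set_option autoImplicit false
set_option linter.unusedSectionVars false
set_option linter.style.haveILetI false
set_option backward.isDefEq.respectTransparency.types false
set_option maxHeartbeats 1000000

universe u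

open CategoryTheory CategoryTheory.Limits MonoidalCategory CartesianMonoidalCategory MonObj GrpObj AlgebraicGeometry
open WithConv AddMonoidAlgebra
open Groth.L25 Groth.L06.CoxeterElt
open Groth.L25.Bridge (P)
open Groth.L08.TorusQuot (sp sp_left sp_comp exists_sp toPt ofPt toPt_ofPt ofPt_toPt toPt_pre SP pre Pt)

noncomputable section

namespace Groth.L06.RootLines

variable (k : Type u) [Field k] {r r' : ℕ}

local notation "SK" => Spec (CommRingCat.of k)

/-- the universal character -/
def univChar (r : ℕ) : Multiplicative (Fin r → ℤ) →* Γ((TT k r).left, ⊤) :=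
  ((Scheme.ΓSpecIso (CommRingCat.of (TB k r))).inv.hom.toMonoidHom).comp (AddMonoidAlgebra.of k (Fin r → ℤ))

/-- the comparison with the diagonalisable group -/
def toDS (r : ℕ) : TT k r ⟶ Red.DS SK (Fin r → ℤ) := DSPts.pt (univChar k r)

/-- the characters of a point of a split torus -/
theorem char_toDS {D : Type u} [CommRing D] [Algebra k D] (t : SP k D ⟶ TT k r) (m : Fin r → ℤ) :
    DSPts.char (t ≫ toDS k r) (Multiplicative.ofAdd m) =
      (Scheme.ΓSpecIso (CommRingCat.of D)).inv ((ofPt t).ofConv (single m 1)) := by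
  rw [DSPts.char_comp, toDS, DSPts.char_pt]
  show t.left.appTop ((Scheme.ΓSpecIso (CommRingCat.of (TB k r))).inv (single m 1)) = _
  have e : t.left = Spec.map (CommRingCat.ofHom (ofPt t).ofConv.toRingHom) := by
    conv_lhs => rw [← toPt_ofPt t]
    rfl
  rw [e]
  exact (congrArg (fun ψ => (ConcreteCategory.hom ψ) (single m 1 : TB k r))
    (Scheme.ΓSpecIso_inv_naturality (CommRingCat.ofHom (ofPt t).ofConv.toRingHom))).symm

instance isMonHom_toDS (r : ℕ) : IsMonHom (toDS k r) := by
  have hmul : ∀ {D : Type u} [CommRing D] [Algebra k D] (a b : SP k D ⟶ TT k r),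
      (a * b) ≫ toDS k r = (a ≫ toDS k r) * (b ≫ toDS k r) := by
    intro D _ _ a b
    refine DSPts.char_injective (MonoidHom.ext fun x => ?_)
    obtain ⟨m, rfl⟩ : ∃ m, Multiplicative.ofAdd m = x := ⟨Multiplicative.toAdd x, rfl⟩
    rw [DSPts.char_mul, MonoidHom.mul_apply, char_toDS, char_toDS, char_toDS]
    refine Eq.trans ?_ (map_mul _ _ _)
    congr 1
    show (ofPt (a * b)).ofConv (single m 1) = _
    rw [show ofPt (a * b) = ofPt a * ofPt b from map_mul _ _ _, AlgHom.convMul_apply, AddMonoidAlgebra.comul_single]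
    simp
  refine ⟨?_, ?_⟩
  · refine Groth.L25.Dyn.hom_ext_spec _ _ fun R _ _ y => ?_
    have h2 : (1 : SP k R ⟶ TT k r) ≫ toDS k r = 1 := by
      refine DSPts.char_injective (MonoidHom.ext fun x => ?_)
      obtain ⟨m, rfl⟩ : ∃ m, Multiplicative.ofAdd m = x := ⟨Multiplicative.toAdd x, rfl⟩
      rw [char_toDS, DSPts.char_one, MonoidHom.one_apply]
      refine Eq.trans ?_ (map_one (Scheme.ΓSpecIso (CommRingCat.of R)).inv.hom)
      congr 1
      show (ofPt (1 : SP k R ⟶ TT k r)).ofConv (single m 1) = 1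
      rw [show ofPt (1 : SP k R ⟶ TT k r) = 1 from map_one _, AlgHom.convOne_apply, AddMonoidAlgebra.counit_single]
      simp
    have e1 : y ≫ η[TT k r] = (1 : SP k R ⟶ TT k r) := by
      rw [Hom.one_def]; congr 1; exact Subsingleton.elim _ _
    have e2 : y ≫ η[Red.DS SK (Fin r → ℤ)] = (1 : SP k R ⟶ Red.DS SK (Fin r → ℤ)) := by
      rw [Hom.one_def]; congr 1; exact Subsingleton.elim _ _
    rw [← Category.assoc, e1, e2, h2]
  · refine Groth.L25.Dyn.hom_ext_spec _ _ fun R _ _ y => ?_
    have h1 := hmul (y ≫ fst _ _) (y ≫ snd _ _)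
    rw [Hom.mul_def, Hom.mul_def, ← comp_lift, lift_fst_snd, Category.comp_id, Category.assoc] at h1
    rw [h1, ← lift_map, ← comp_lift, lift_fst_snd, Category.comp_id, Category.assoc]

instance isIso_toDS (r : ℕ) : IsIso (toDS k r) := by
  let d : Red.DS SK (Fin r → ℤ) ≅ P k (MonoidAlgebra k (Multiplicative (Fin r → ℤ))) :=
    (Grp.forget _).mapIso (Bridge.dsIso k (Fin r → ℤ))
  haveI : IsMonHom d.hom := (Bridge.dsIso k (Fin r → ℤ)).hom.hom.isMonHom_hom
  haveI : IsMonHom d.inv := (Bridge.dsIso k (Fin r → ℤ)).inv.hom.isMonHom_hom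
  let F : Red.DS SK (Fin r → ℤ) ≅ TT k r := d ≪≫ eIso k r
  haveI : IsMonHom F.hom := inferInstanceAs (IsMonHom (d.hom ≫ (eIso k r).hom))
  haveI : IsMonHom (toDS k r ≫ F.hom) := inferInstance
  obtain ⟨p, hp⟩ := exists_dP k (toDS k r ≫ F.hom)
  have h1 : toDS k r = dP k p ≫ F.inv := by rw [← hp, Category.assoc, Iso.hom_inv_id, Category.comp_id]
  have hsurj : Function.Surjective p := by
    intro m
    have h2 := DFunLike.congr_fun (congrArg DSPts.char h1) (Multiplicative.ofAdd m)
    rw [DSPts.char_comp, toDS, DSPts.char_pt] at h2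
    have h3 : univChar k r (Multiplicative.ofAdd m) =
        (Spec.map (CommRingCat.ofHom ((md k p : TB k r →ₐc[k] TB k r) : TB k r →+* TB k r))).appTop
          (DSPts.char F.inv (Multiplicative.ofAdd m)) := h2
    obtain ⟨z, hz⟩ : ∃ z, (Scheme.ΓSpecIso (CommRingCat.of (TB k r))).inv z =
        DSPts.char F.inv (Multiplicative.ofAdd m) :=
      ⟨(Scheme.ΓSpecIso (CommRingCat.of (TB k r))).hom _, Iso.hom_inv_id_apply _ _⟩
    have h4 := congrArg (fun ψ => (ConcreteCategory.hom ψ) z) (Scheme.ΓSpecIso_inv_naturality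
      (CommRingCat.ofHom ((md k p : TB k r →ₐc[k] TB k r) : TB k r →+* TB k r)))
    rw [← hz] at h3
    have h3' := h3.trans h4.symm
    have h5 : (single m 1 : TB k r) = md k p z :=
      (Scheme.ΓSpecIso (CommRingCat.of (TB k r))).symm.commRingCatIsoToRingEquiv.injective h3'
    by_contra hne
    have h6 : (AddMonoidAlgebra.mapDomain p z).coeff m = 0 :=
      Finsupp.mapDomain_of_notMem_range _ _ hne
    rw [show AddMonoidAlgebra.mapDomain p z = md k p z from rfl, ← h5] at h6
    simp at h6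
  have hinj : Function.Injective p :=
    OrzechProperty.injective_of_surjective_endomorphism p.toIntLinearMap hsurj
  let e := AddEquiv.ofBijective p ⟨hinj, hsurj⟩
  haveI : IsIso (dP k p) := ⟨dP k (e.symm : (Fin r → ℤ) →+ (Fin r → ℤ)),
    by rw [dP_comp, ← dP_id]; exact congrArg (dP k) (AddMonoidHom.ext fun x => e.apply_symm_apply x),
    by rw [dP_comp, ← dP_id]; exact congrArg (dP k) (AddMonoidHom.ext fun x => e.symm_apply_apply x)⟩
  rw [h1]
  infer_instance

theorem dP_toDS (p : (Fin r → ℤ) →+ (Fin r' → ℤ)) :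
    dP k p ≫ toDS k r = toDS k r' ≫ Red.DSmap SK p := by
  refine Groth.L25.Dyn.hom_ext_spec _ _ fun D _ _ y => DSPts.char_injective (MonoidHom.ext fun x => ?_)
  obtain ⟨m, rfl⟩ : ∃ m, Multiplicative.ofAdd m = x := ⟨Multiplicative.toAdd x, rfl⟩
  rw [← Category.assoc, ← Category.assoc, char_toDS, SplitSub.char_DSmap, MonoidHom.comp_apply,
    show AddMonoidHom.toMultiplicative p (Multiplicative.ofAdd m) = Multiplicative.ofAdd (p m) from rfl, char_toDS]
  congr 1
  have e : ofPt (y ≫ dP k p) = pre (md k p) (ofPt y) := by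
    refine Spec.mapMulEquiv.injective ?_
    show toPt (ofPt (y ≫ dP k p)) = toPt (pre (md k p) (ofPt y))
    rw [toPt_ofPt, toPt_pre, toPt_ofPt]
  rw [e]
  show (ofPt y).ofConv (md k p (single m 1)) = _
  rw [AddMonoidAlgebra.mapDomainBialgHom_single]

/-- the character of a vector -/
def chT (m : Fin r → ℤ) : TT k r ⟶ Red.Gm SK := toDS k r ≫ Red.chi SK m

theorem exists_eq_chT (α : TT k r ⟶ Red.Gm SK) [IsMonHom α] : ∃ m, α = chT k m := by
  haveI : IsMonHom (inv (toDS k r)) := inferInstanceAs (IsMonHom (asIso (toDS k r)).inv)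
  obtain ⟨θ, hθ⟩ := Groth.Agent.S14754.exists_DSmap (k := k) (inv (toDS k r) ≫ α)
  refine ⟨θ 1, ?_⟩
  rw [chT, ← IsIso.inv_comp_eq, hθ, Red.chi]
  congr 1
  exact AddMonoidHom.ext_int (by simp)

theorem gmFn_chT {D : Type u} [CommRing D] [Algebra k D] (t : SP k D ⟶ TT k r) (m : Fin r → ℤ) :
    Red.gmFn (t ≫ chT k m) = (Scheme.ΓSpecIso (CommRingCat.of D)).inv ((ofPt t).ofConv (single m 1)) := by
  rw [chT, ← Category.assoc, Groth.L14.Luna.SemiRank.gmFn_chi, char_toDS]

end Groth.L06.RootLines
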