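import Groth.Agent.L06.RootLines.Dim
import Groth.Agent.L06.RootLines.Pieces
import Groth.Agent.L06.RootLines.Torus
import Groth.Agent.L08.TorusWeights.Reductive
import Groth.Agent.L24.TorusField.LieNilp
import Groth.Agent.L08.Borel.DimTorus
import Groth.Agent.L25.Observable.Translate

/-!
# Root lines of a reductive group over an algebraically closed field
-/

set_option autoImplicit false
set_option linter.unusedSectionVars false
set_option linter.style.haveILetI false
set_option backward.isDefEq.respectTransparency.types false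
set_option maxHeartbeats 1000000

universe u

open CategoryTheory CategoryTheory.Limits MonoidalCategory CartesianMonoidalCategory MonObj GrpObj AlgebraicGeometry
open WithConv Groth.L06.CoxeterElt
open Groth.L25.Bridge (P)
open Groth.L08.TorusQuot (sp sp_left sp_comp exists_sp toPt ofPt toPt_ofPt toPt_pre SP pre)
open Groth.L08.Borel

noncomputable section

namespace Groth.L06.RootLines

variable {k : Type u} [Field k]

section General

variable {A B : Type u} [CommRing A] [HopfAlgebra k A] [CommRing B] [HopfAlgebra k B]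

theorem sp_injective {f g : B →ₐc[k] A} (h : sp f = sp g) : f = g := by
  have h1 := congrArg (fun m => m.left) h
  simp only [sp_left] at h1
  refine BialgHom.ext fun x => ?_
  exact DFunLike.congr_fun (congrArg CommRingCat.Hom.hom (Spec.map_injective h1)) x

theorem surjective_of_closedImm {f : B →ₐc[k] A} [IsClosedImmersion (sp f).left] : Function.Surjective f := by
  haveI : IsClosedImmersion (Spec.map (CommRingCat.ofHom (f : B →+* A))) := ‹IsClosedImmersion (sp f).left›
  have h2 := (IsClosedImmersion.isAffine_surjective_of_isAffine (Spec.map (CommRingCat.ofHom (f : B →+* A)))).2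
  intro y
  obtain ⟨x, hx⟩ := h2 ((Scheme.ΓSpecIso (CommRingCat.of A)).inv y)
  refine ⟨(Scheme.ΓSpecIso (CommRingCat.of B)).hom x, ?_⟩
  have h3 := ConcreteCategory.congr_hom (Scheme.ΓSpecIso_naturality (CommRingCat.ofHom (f : B →+* A))) x
  simp only [CommRingCat.hom_comp, RingHom.comp_apply] at h3
  refine h3.symm.trans ?_
  rw [hx]
  exact (Scheme.ΓSpecIso (CommRingCat.of A)).inv_hom_id_apply y

variable {G : Over (Spec (CommRingCat.of k))} [GrpObj G]

theorem smooth_props [Smooth G.hom] (jG : G ⟶ P k A) [IsIso jG] :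
    Algebra.FiniteType k A ∧ Algebra.FormallySmooth k A := by
  have hsm : Smooth (P k A).hom := by
    rw [← Over.w (inv jG)]
    haveI : IsIso (inv jG).left := inferInstanceAs (IsIso ((Over.forget _).map (inv jG)))
    infer_instance
  constructor
  · have h1 : LocallyOfFiniteType (Spec.map (CommRingCat.ofHom (algebraMap k A))) :=
      haveI := hsm
      inferInstanceAs (LocallyOfFiniteType (P k A).hom)
    rw [HasRingHomProperty.Spec_iff (P := @LocallyOfFiniteType), CommRingCat.hom_ofHom,
      RingHom.finiteType_algebraMap] at h1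
    exact h1
  change Smooth (Spec.map (CommRingCat.ofHom (algebraMap k A))) at hsm
  rw [HasRingHomProperty.Spec_iff (P := @Smooth), CommRingCat.hom_ofHom] at hsm
  exact (RingHom.smooth_algebraMap.1 hsm).formallySmooth

/-- a smooth group has as many tangent vectors as dimensions -/
theorem finrank_Tan_eq [Smooth G.hom] (jG : G ⟶ P k A) [IsIso jG] :
    topologicalKrullDim G.left = (Module.finrank k (Tan k A) : WithBot ℕ∞) := by
  obtain ⟨h1, h2⟩ := smooth_props jG
  rw [finrank_Tan.2, ← (Groth.L08.HopfSmooth.dim_le_and_iff k A).2.2 h2,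
    ← PrimeSpectrum.topologicalKrullDim_eq_ringKrullDim]
  haveI : IsIso jG.left := inferInstanceAs (IsIso ((Over.forget _).map jG))
  exact IsHomeomorph.topologicalKrullDim_eq _ jG.left.homeomorph.isHomeomorph

end General

variable [IsAlgClosed k] {G : Over (Spec (CommRingCat.of k))} [GrpObj G] {A : Type u} [CommRing A] [HopfAlgebra k A]
  {r : ℕ} {iT : TT k r ⟶ G} (jG : G ⟶ P k A) [IsMonHom jG] [IsIso jG] {φ : A →ₐc[k] TB k r}

/-- a maximal torus which is not the whole group has a weight -/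
theorem exists_weight_ne (hG : Red.IsReductiveOver k G) (hT : AGF.IsMaxTorus iT) (hφ : sp φ = iT ≫ jG)
    (hne : ¬ IsIso iT) : ∃ a : Fin r → ℤ, a ≠ 0 ∧ Wt φ a ≠ ⊥ := by
  haveI := hG.1; haveI := hG.2.1; haveI := hG.2.2.1
  haveI := hT.1; haveI := hT.2.1
  haveI : QuasiCompact G.hom := quasiCompact_of_compactSpace _
  obtain ⟨hft, -⟩ := smooth_props jG
  haveI := hft
  haveI : IsIso jG.left := inferInstanceAs (IsIso ((Over.forget _).map jG))
  haveI : ConnectedSpace ↥(Spec (CommRingCat.of A)) := jG.left.surjective.connectedSpace jG.left.continuous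
  haveI : IsDomain A := Groth.L25.Observable.isDomain jG
  haveI : IsNoetherianRing A := Algebra.FiniteType.isNoetherianRing k A
  by_contra hcon
  push Not at hcon
  have hzero : ∀ m b, m ≠ 0 → piece φ m b = 0 := fun m b hm => by
    obtain ⟨w, hw⟩ := exists_injOn (insert m {(0 : Fin r → ℤ)})
    have hwm : w m ≠ 0 := fun e => hm (hw (by simp) (by simp) (by rw [e, map_zero]))
    by_contra hx
    obtain ⟨a, y, hwa, hy⟩ := exists_weight φ w hwm hx
    have ha : a ≠ 0 := fun e => hwa (by rw [e, map_zero])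
    exact ((Wt_ne_bot_iff φ ha).2 ⟨y, hy⟩) (hcon a ha)
  have hcom : Groth.L25.Dyn.TorCommutes ((md k (AddMonoidHom.id (Fin r → ℤ))).comp φ) (AlgHom.id k A) :=
    torCommutes_of_pieces φ (AddMonoidHom.id (Fin r → ℤ)) _ fun i b hi => hzero i b hi
  have hc := Groth.L08.TorusWeights.selfCentral_of_reductiveOver hG hT
  obtain ⟨z, hz⟩ := (hc.2.2 _ (𝟙 G)).2 fun X x s => by
    have h := commute_of_torCommutes φ (AddMonoidHom.id _) hcom (x ≫ jG) s
    have e : toPt (toConv (AlgHom.id k A)) = 𝟙 (P k A) := Over.OverMorphism.ext (Spec.map_id _)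
    rw [e, Category.comp_id, dP_id, Category.id_comp, hφ] at h
    rw [Category.comp_id, ← cancel_mono jG]
    simp only [MonObj.mul_comp, Category.assoc]
    exact h
  exact hne ⟨z, by rw [← cancel_mono iT, Category.assoc, hz, Category.id_comp, Category.comp_id], hz⟩

/-- the Weyl group is finite -/
theorem weyl_finite' (hG : Red.IsReductiveOver k G) (hT : AGF.IsMaxTorus iT) : (weyl iT).Finite := by
  haveI := hG.1; haveI := hG.2.1; haveI := hG.2.2.1
  haveI := hT.1; haveI := hT.2.1
  obtain ⟨B, B', gB, gB', iB, iB', u, u', -, hB, -, hu, -, -, -⟩ := Groth.L14.Luna.exists_general_position hT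
  exact weyl_finite hT hB hu

/-- the tangent weights of the centralizer of the kernel of a projection of characters -/
theorem sum_finrank_le_of_line (hG : Red.IsReductiveOver k G) (hT : AGF.IsMaxTorus iT) (hφ : sp φ = iT ≫ jG)
    {r' : ℕ} (p : (Fin r → ℤ) →+ (Fin r' → ℤ)) (hp : Function.Surjective p) {a₀ : Fin r → ℤ} (ha₀ : a₀ ≠ 0)
    (hker : ∀ x, p x = 0 ↔ ∃ q : ℤ, x = q • a₀) {a : Fin r → ℤ} (ha : a ≠ 0) (hpa : p a = 0) (hWa : Wt φ a ≠ ⊥)
    (S : Finset (Fin r → ℤ)) (hS : ∀ m ∈ S, p m = 0) :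
    ∑ m ∈ S, Module.finrank k (Wt φ m) ≤ r + 2 := by
  classical
  haveI := hG.1; haveI := hG.2.1; haveI := hG.2.2.1
  haveI := hT.1; haveI := hT.2.1
  haveI := isClosedImmersion_dP k p hp
  haveI : Mono (dP k p) := Groth.L08.mono_of_closedImmersion _
  let iS : TT k r' ⟶ G := dP k p ≫ iT
  haveI : IsMonHom iS := inferInstanceAs (IsMonHom (dP k p ≫ iT))
  haveI : Mono iS := inferInstanceAs (Mono (dP k p ≫ iT))
  have hSt := isTorus_TT k r'
  obtain ⟨C, gC, c, hc⟩ := exists_centralizer_torus iS hSt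
  obtain ⟨hcc, hCa, hCs, hCc, -, hcen⟩ := centralizer_props hSt hc
  haveI := hcc; haveI := hCa; haveI := hCs; haveI := hCc; haveI := hc.1; haveI := hc.2.1
  obtain ⟨-, -, -, -, hcomm⟩ := torus_props hT.2.2.1
  obtain ⟨t, ht⟩ := (hc.2.2 _ iT).2 fun X x h => by
    show (x ≫ iT) * (h ≫ dP k p ≫ iT) = (h ≫ dP k p ≫ iT) * (x ≫ iT)
    simp only [← Category.assoc]
    rw [← MonObj.mul_comp, ← MonObj.mul_comp, hcomm]
  haveI : IsMonHom t := isMonHom_of_comp_mono t c iT ht
  haveI : Mono t := by haveI : Mono (t ≫ c) := ht ▸ hT.2.1; exact mono_of_mono t c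
  have hC := Groth.L14.Luna.isReductiveOver_centralizer hG hSt hc
  have hmax : AGF.IsMaxTorus t := ⟨inferInstance, inferInstance, hT.2.2.1, fun T' _ j _ _ f hT' hf => by
    haveI : Mono (j ≫ c) := mono_comp _ _
    exact hT.2.2.2 T' (j ≫ c) f hT' (by rw [← Category.assoc, hf, ht])⟩
  -- coordinates
  haveI : IsAffineHom C.hom := isAffineHom_of_isAffine _
  obtain ⟨E, _, _, ⟨eC⟩⟩ := Groth.L25.Bridge.exists_hopf C
  let jC : C ⟶ P k E := eC.hom.hom.hom
  haveI : IsMonHom jC := eC.hom.hom.isMonHom_hom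
  haveI : IsIso jC := ⟨eC.inv.hom.hom, congrArg (fun f => f.hom.hom) eC.hom_inv_id,
    congrArg (fun f => f.hom.hom) eC.inv_hom_id⟩
  haveI : IsMonHom (inv jC) := inferInstanceAs (IsMonHom (asIso jC).inv)
  haveI : IsIso (inv jC).left := inferInstanceAs (IsIso ((Over.forget _).map (inv jC)))
  haveI : IsIso jG.left := inferInstanceAs (IsIso ((Over.forget _).map jG))
  obtain ⟨hftC, -⟩ := smooth_props jC
  haveI := hftC
  obtain ⟨hft, -⟩ := smooth_props jG
  haveI := hft
  obtain ⟨ψ, hψ⟩ := exists_sp (inv jC ≫ c ≫ jG)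
  obtain ⟨φC, hφC⟩ := exists_sp (t ≫ jC)
  have hψs : Function.Surjective ψ := by
    haveI : IsClosedImmersion (sp ψ).left := by
      rw [hψ]; exact inferInstanceAs (IsClosedImmersion ((inv jC).left ≫ c.left ≫ jG.left))
    exact surjective_of_closedImm
  have hnat : φC.comp ψ = φ := sp_injective (by
    rw [← sp_comp, hφC, hψ, hφ, Category.assoc, IsIso.hom_inv_id_assoc, ← Category.assoc, ht])
  -- the torus is not everything
  have hne : ¬ IsIso t := by
    intro hiso
    obtain ⟨y, hy⟩ := (Wt_ne_bot_iff φ ha).1 hWa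
    obtain ⟨D, _, _, g, hg1, hg2⟩ := exists_extra φ p hpa ha hy
    refine hg2 ?_
    obtain ⟨z, hz⟩ := (hc.2.2 _ (toPt (toConv g) ≫ inv jG)).2 fun X x s => by
      rw [← cancel_mono jG]
      simp only [iS, MonObj.mul_comp, Category.assoc, IsIso.inv_hom_id, Category.comp_id, ← hφ]
      exact commute_of_torCommutes φ p hg1 x s
    refine torCommutes_of_factor φ g (z ≫ inv t) ?_
    rw [hφ, Category.assoc, ← Category.assoc (inv t), show inv t ≫ iT = c by rw [IsIso.inv_comp_eq, ht]]
    rw [← Category.assoc, hz, Category.assoc, IsIso.inv_hom_id, Category.comp_id]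
  -- semisimple rank one
  obtain ⟨Z, gZ, zz, hzz⟩ := exists_centralizer_torus t hT.2.2.1
  obtain ⟨-, -, -, -, ⟨tz, htz⟩, -⟩ := centralizer_props hT.2.2.1 hzz
  haveI := Groth.L14.Luna.isIso_of_centralizer_maxTorus hC hmax hzz tz htz
  let Δ : Groth.L14.Luna.SemiRank.Setup C (TT k r) t :=
    { M := Fin r → ℤ
      e := toDS k r
      isIso_e := inferInstance
      isMonHom_e := inferInstance
      r := r'
      φ := p
      a₀ := a₀
      ne := ha₀
      ker := hker
      max := hmax
      self_centralizing := fun g hg => by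
        obtain ⟨w, hw⟩ := (hzz.2.2 _ g).2 fun X x h => by
          have h1 := congrArg (h ≫ ·) hg
          simp only [AGF.conjBy, MonObj.comp_mul, GrpObj.comp_inv, ← Category.assoc] at h1
          rw [toUnit_unique (h ≫ toUnit (TT k r)) x] at h1
          rw [mul_inv_eq_iff_eq_mul] at h1
          exact h1
        exact ⟨w ≫ inv tz, by rw [Category.assoc, ← htz, IsIso.inv_hom_id_assoc, hw]⟩
      central := fun g => by
        have e : Red.DSmap _ p ≫ inv (toDS k r) = inv (toDS k r') ≫ dP k p := by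
          rw [IsIso.eq_inv_comp, ← Category.assoc, IsIso.comp_inv_eq, dP_toDS]
        rw [← Category.assoc, e, Category.assoc, ← comp_conjBy]
        congr 1
        rw [← cancel_mono c, conjBy_comp, Category.assoc, ht]
        simp only [AGF.conjBy]
        have h1 := hcen (TT k r') (toUnit _ ≫ g) (𝟙 _)
        rw [Category.id_comp, Category.assoc] at h1
        rw [h1, mul_inv_cancel_right] }
  have hr : topologicalKrullDim (TT k r).left ≤ (r : WithBot ℕ∞) := by
    obtain ⟨-, hTs, -, -, -⟩ := torus_props hT.2.2.1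
    exact ((IsHomeomorph.topologicalKrullDim_eq _ (Scheme.homeoOfIso ((Over.forget _).mapIso (asIso (toDS k r)))).isHomeomorph).trans Groth.L08.Borel.dim_DS).le
  have hdim := dim_le_add_two hC Δ hne hr
  rw [finrank_Tan_eq jC] at hdim
  have hTan : Module.finrank k (Tan k E) ≤ r + 2 := by exact_mod_cast hdim
  refine le_trans (le_trans (Finset.sum_le_sum fun m hm => ?_) (sum_finrank_le φC S)) hTan
  -- tangent vectors of weights on the line lie in the centralizer
  haveI : Module.Finite k (Wt φC m) := Submodule.finiteDimensional_of_le (Wt_le φC m)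
  let f : Wt φC m →ₗ[k] Wt φ m :=
    { toFun := fun w => ⟨w.1 ∘ₗ (ψ : A →ₐ[k] E).toLinearMap, comp_mem_Wt_natural φ ψ hnat w.2⟩
      map_add' := fun u v => Subtype.ext (LinearMap.add_comp _ _ _)
      map_smul' := fun c v => Subtype.ext (LinearMap.smul_comp _ _ _) }
  refine LinearMap.finrank_le_finrank_of_surjective (f := f) fun w => ?_
  have hq : Groth.L25.Dyn.TorCommutes ((md k p).comp φ) (Groth.L24.TorusField.dualPt w.2.1) :=
    torCommutes_of_pieces φ p _ fun i b hi => by
      have him : i ≠ m := fun e => hi (e ▸ hS m hm)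
      have hi0 : i ≠ 0 := fun e => hi (by rw [e, map_zero])
      refine TrivSqZeroExt.ext ?_ ?_
      · rw [Groth.L24.TorusField.fst_dualPt, TrivSqZeroExt.fst_zero]
        have h := RingHom.mem_ker.1 (counit_piece φ hi0 b)
        rwa [Bialgebra.counitAlgHom_apply] at h
      · rw [Groth.L24.TorusField.snd_dualPt, TrivSqZeroExt.snd_zero]
        exact w.2.2 i b him
  obtain ⟨z, hz⟩ := (hc.2.2 _ (toPt (toConv (Groth.L24.TorusField.dualPt w.2.1)) ≫ inv jG)).2 fun X x s => by
    rw [← cancel_mono jG]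
    simp only [iS, MonObj.mul_comp, Category.assoc, IsIso.inv_hom_id, Category.comp_id, ← hφ]
    exact commute_of_torCommutes φ p hq x s
  have hg : pre ψ (ofPt (z ≫ jC)) = toConv (Groth.L24.TorusField.dualPt w.2.1) := by
    refine Spec.mapMulEquiv.injective ?_
    show toPt (pre ψ (ofPt (z ≫ jC))) = toPt (toConv _)
    rw [toPt_pre, toPt_ofPt, hψ, Category.assoc, IsIso.hom_inv_id_assoc, ← Category.assoc, hz, Category.assoc,
      IsIso.inv_hom_id, Category.comp_id]
  let g : E →ₐ[k] DualNumber k := (ofPt (z ≫ jC)).ofConv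
  let w' : E →ₗ[k] k :=
    { toFun := fun e => (g e).snd
      map_add' := fun x y => by rw [map_add, TrivSqZeroExt.snd_add]
      map_smul' := fun c x => by rw [map_smul, TrivSqZeroExt.snd_smul]; rfl }
  have hgψ : ∀ b, g (ψ b) = Groth.L24.TorusField.dualPt w.2.1 b := fun b =>
    DFunLike.congr_fun (congrArg WithConv.ofConv hg) b
  have hfst : ∀ e, (g e).fst = Bialgebra.counitAlgHom k E e := fun e => by
    obtain ⟨b, rfl⟩ := hψs e
    rw [hgψ, Groth.L24.TorusField.fst_dualPt]
    exact (CoalgHomClass.counit_comp_apply ψ b).symm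
  have hw'ψ : ∀ b, w' (ψ b) = w.1 b := fun b => by
    show (g (ψ b)).snd = _
    rw [hgψ, Groth.L24.TorusField.snd_dualPt]
  have hmem : w' ∈ Wt φC m := by
    refine ⟨fun x y => ?_, fun n e hn => ?_⟩
    swap
    · obtain ⟨b, rfl⟩ := hψs e
      rw [piece_natural φ ψ hnat, hw'ψ]
      exact w.2.2 n b hn
    show (g (x * y)).snd = _ * (g y).snd + _ * (g x).snd
    rw [map_mul, TrivSqZeroExt.snd_mul, hfst, hfst]
    simp [mul_comm]
  exact ⟨⟨w', hmem⟩, Subtype.ext (LinearMap.ext hw'ψ)⟩

/-- reflections exchange opposite weights -/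
theorem finrank_Wt_neg_le (hG : Red.IsReductiveOver k G) (hT : AGF.IsMaxTorus iT) (hφ : sp φ = iT ≫ jG)
    {a : Fin r → ℤ} (ha : a ≠ 0) (hW : Wt φ a ≠ ⊥) :
    Module.finrank k (Wt φ (-a)) ≤ Module.finrank k (Wt φ a) ∧
      Module.finrank k (Wt φ a) ≤ Module.finrank k (Wt φ (-a)) := by
  haveI := hG.1; haveI := hG.2.1; haveI := hG.2.2.1
  haveI := hT.1; haveI := hT.2.1
  obtain ⟨hft, -⟩ := smooth_props jG
  haveI := hft
  obtain ⟨y, hy⟩ := (Wt_ne_bot_iff φ ha).1 hW
  obtain ⟨a₀, hline, θ, hθW, hθa₀, -⟩ := exists_reflection hG hT (weyl_finite' hG hT) jG hφ ha hy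
  -- the weight is negated
  have hθa : θ a = -a := by
    obtain ⟨j, hj⟩ : ∃ j, a₀ j ≠ 0 := by
      by_contra h
      push Not at h
      exact ha (funext fun i => hline (Pi.evalAddMonoidHom _ i) (h i))
    have e : a₀ j • a = a j • a₀ := funext fun i => by
      let f : (Fin r → ℤ) →+ ℤ := a₀ j • Pi.evalAddMonoidHom (fun _ => ℤ) i - a₀ i • Pi.evalAddMonoidHom (fun _ => ℤ) j
      have h := hline f (by simp [f, mul_comm])
      simp only [f, AddMonoidHom.sub_apply, AddMonoidHom.smul_apply, Pi.evalAddMonoidHom_apply, smul_eq_mul,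
        sub_eq_zero] at h
      simp only [Pi.smul_apply, smul_eq_mul, h, mul_comm]
    have e2 : a₀ j • (θ a + a) = 0 := by
      rw [smul_add, ← map_zsmul, e, map_zsmul, hθa₀, smul_neg, neg_add_cancel]
    exact eq_neg_of_add_eq_zero_left ((smul_eq_zero.1 e2).resolve_left hj)
  obtain ⟨n, hn⟩ := hθW
  -- conjugation by the representative
  obtain ⟨κ, hκ⟩ := exists_conjIso n (G := G)
  have eκ : κ.hom = AGF.conjBy n (𝟙 G) := (Category.id_comp _).symm.trans (hκ _)
  haveI : IsMonHom κ.hom := eκ ▸ isMonHom_conjBy n (𝟙 G)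
  haveI : IsMonHom (inv jG) := inferInstanceAs (IsMonHom (asIso jG).inv)
  obtain ⟨ψ, hψ⟩ := exists_sp (inv jG ≫ κ.hom ≫ jG)
  have hψs : Function.Surjective ψ := by
    haveI : IsIso (sp ψ) := hψ ▸ inferInstance
    haveI : IsIso (sp ψ).left := inferInstanceAs (IsIso ((Over.forget _).map (sp ψ)))
    haveI : IsClosedImmersion (sp ψ).left := inferInstance
    exact surjective_of_closedImm
  have hnat : φ.comp ψ = (md k θ).comp φ := sp_injective (by
    rw [← sp_comp, ← sp_comp, hψ, hφ, Category.assoc, IsIso.hom_inv_id_assoc, ← Category.assoc iT, hκ,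
      ← Category.assoc (dP k θ), ← hn])
  have hθinj := weyl_injective hT ⟨n, hn⟩
  have key : ∀ m, Module.finrank k (Wt φ (θ m)) ≤ Module.finrank k (Wt φ m) := fun m =>
    finrank_le_of_surjective ψ hψs _ _ (Wt_le φ m) fun w hw => by
      refine ⟨isTangent_comp ψ hw.1, fun l b hl => ?_⟩
      show w (ψ (piece φ l b)) = 0
      rw [← piece_md φ θ hθinj l b, ← piece_natural ((md k θ).comp φ) ψ hnat]
      exact hw.2 _ _ fun e => hl (hθinj e)
  have h1 := key a
  have h2 := key (-a)
  rw [hθa] at h1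
  rw [map_neg, hθa, neg_neg] at h2
  exact ⟨h1, h2⟩

/-- proportionality of vectors of integers -/
def Prop' (a b : Fin r → ℤ) : Prop := ∀ f : (Fin r → ℤ) →+ ℤ, f a = 0 → f b = 0

/-- **root lines**: root spaces are lines, opposite roots are roots, and a line carries two roots -/
theorem root_line (hG : Red.IsReductiveOver k G) (hT : AGF.IsMaxTorus iT) (hφ : sp φ = iT ≫ jG)
    {a : Fin r → ℤ} (ha : a ≠ 0) (hW : Wt φ a ≠ ⊥) :
    Module.finrank k (Wt φ a) = 1 ∧ Module.finrank k (Wt φ (-a)) = 1 ∧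
      ∀ b, b ≠ 0 → Wt φ b ≠ ⊥ → Prop' a b → b = a ∨ b = -a := by
  classical
  haveI := hG.1; haveI := hG.2.1; haveI := hG.2.2.1
  haveI := hT.1; haveI := hT.2.1
  obtain ⟨hft, -⟩ := smooth_props jG
  haveI := hft
  haveI : IsIso jG.left := inferInstanceAs (IsIso ((Over.forget _).map jG))
  haveI : QuasiCompact G.hom := quasiCompact_of_compactSpace _
  haveI : IsClosedImmersion iT.left :=
    Groth.L25.Locus.isClosedImmersion_of_mono
      (Groth.L25.Locus.locally_of_multTypeFT (Groth.L25.Locus.isMultTypeFT_of_isTorus hT.2.2.1)) iT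
  have hφs : Function.Surjective φ := by
    haveI : IsClosedImmersion (sp φ).left := by
      rw [hφ]; exact inferInstanceAs (IsClosedImmersion (iT.left ≫ jG.left))
    exact surjective_of_closedImm
  have h0 := rank_le_finrank_Wt_zero φ hφs
  haveI : ∀ m, Module.Finite k (Wt φ m) := fun m => Submodule.finiteDimensional_of_le (Wt_le φ m)
  have hpos : ∀ m, Wt φ m ≠ ⊥ → 1 ≤ Module.finrank k (Wt φ m) := fun m h =>
    Submodule.one_le_finrank_iff.2 h
  obtain ⟨r', p, a₀, hp, ha₀, hker, hpa, -⟩ := Groth.L14.Luna.SemiRank.exists_line_proj ha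
  obtain ⟨h1, h2⟩ := finrank_Wt_neg_le jG hG hT hφ ha hW
  have hpna : p (-a) = 0 := by rw [map_neg, hpa, neg_zero]
  have hna : a ≠ -a := fun e => ha (funext fun i => by
    have h : a i = -a i := congrFun e i
    simp only [Pi.zero_apply]; omega)
  have hsum := fun S hS => sum_finrank_le_of_line jG hG hT hφ p hp ha₀ hker ha hpa hW S hS
  have hS3 : Module.finrank k (Wt φ 0) + (Module.finrank k (Wt φ a) + Module.finrank k (Wt φ (-a))) ≤ r + 2 := by
    have h := hsum {0, a, -a} (by simp [hpa])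
    rwa [Finset.sum_insert (by simp [ha.symm, (neg_ne_zero.2 ha).symm]), Finset.sum_pair hna] at h
  have h3 := hpos a hW
  refine ⟨by omega, by omega, fun b hb hWb hab => ?_⟩
  by_contra hne
  push Not at hne
  have hpb : p b = 0 := funext fun i => hab ((Pi.evalAddMonoidHom (fun _ => ℤ) i).comp p) (congrFun hpa i)
  have h := hsum {0, a, -a, b} (by simp [hpa, hpb])
  rw [Finset.sum_insert (by simp [ha.symm, (neg_ne_zero.2 ha).symm, hb.symm]),
    Finset.sum_insert (by simp [hna, hne.1.symm]), Finset.sum_pair hne.2.symm] at h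
  have := hpos b hWb
  omega

end Groth.L06.RootLines
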