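import Groth.Agent.L06.CoxeterElt.Reflect
import Groth.Agent.L14.Luna.SemiRank.Main
import Groth.Agent.L19.SpecSub.IdComp
import Groth.Agent.L24.TorusField.Dim
import Groth.Agent.L22.FibreBound
import Groth.Agent.L22.GeomConn.Dims

/-!
# The dimension of a reductive group of semisimple rank one
-/

set_option autoImplicit false
set_option linter.unusedSectionVars false
set_option linter.style.haveILetI false
set_option backward.isDefEq.respectTransparency.types false
set_option maxHeartbeats 1000000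

universe u

open CategoryTheory CategoryTheory.Limits MonoidalCategory CartesianMonoidalCategory MonObj GrpObj AlgebraicGeometry
open Groth.L08.Borel Topology TopologicalSpace

noncomputable section

namespace Groth.L06.RootLines

variable {k : Type u} [Field k] [IsAlgClosed k]

local notation "U1" => 𝟙_ (Over (Spec (CommRingCat.of k)))

/-- the dimension is bounded by the dimensions of the target and of a closed fibre -/
theorem dim_le_of_fibre {G X H : Over (Spec (CommRingCat.of k))} [LocallyOfFiniteType G.hom]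
    [IrreducibleSpace G.left] [LocallyOfFiniteType X.hom] [IsSeparated X.hom] [LocallyOfFiniteType H.hom]
    (f : G ⟶ X) (j : H ⟶ G) [IsClosedImmersion j.left] (x : U1 ⟶ G)
    (hfib : ∀ y : U1 ⟶ G, y ≫ f = x ≫ f → ∃ h : U1 ⟶ H, h ≫ j = y) {n m : ℕ}
    (hn : topologicalKrullDim X.left ≤ (n : WithBot ℕ∞)) (hm : topologicalKrullDim H.left ≤ (m : WithBot ℕ∞)) :
    topologicalKrullDim G.left ≤ ((n + m : ℕ) : WithBot ℕ∞) := by
  letI : G.left.Over (Spec (CommRingCat.of k)) := ⟨G.hom⟩
  letI : X.left.Over (Spec (CommRingCat.of k)) := ⟨X.hom⟩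
  haveI : LocallyOfFiniteType (G.left ↘ Spec (CommRingCat.of k)) := ‹LocallyOfFiniteType G.hom›
  haveI : LocallyOfFiniteType (X.left ↘ Spec (CommRingCat.of k)) := ‹LocallyOfFiniteType X.hom›
  obtain ⟨ξ, hξ⟩ : ∃ ξ : G.left, closure ({ξ} : Set G.left) = Set.univ :=
    ⟨genericPoint _, (genericPoint_spec _).def⟩
  have hs : ξ ⤳ ptOf x := specializes_iff_mem_closure.2 (by rw [hξ]; trivial)
  obtain ⟨z, cξ, aξ, cz, a, -, -, hzf, h1, h2, h3, -, hle⟩ :=
    Groth.L22.FibreBound.exists_fibre_ge k f.left (Over.w f) hs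
  have hcl : IsClosed ({f.left (ptOf x)} : Set X.left) := by
    haveI : IsClosedImmersion ((x ≫ f).left ≫ X.hom) := by
      rw [Over.w (x ≫ f)]; exact inferInstanceAs (IsClosedImmersion (𝟙 (Spec (CommRingCat.of k))))
    haveI := IsClosedImmersion.of_comp (x ≫ f).left X.hom
    have h := (x ≫ f).left.isClosedEmbedding.isClosed_range
    convert h using 1
    haveI : Subsingleton ↥((𝟙_ (Over (Spec (CommRingCat.of k)))).left) :=
      inferInstanceAs (Subsingleton (PrimeSpectrum k))
    ext y
    constructor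
    · rintro rfl
      exact ⟨_, rfl⟩
    · rintro ⟨p, rfl⟩
      rw [Subsingleton.elim p (IsLocalRing.closedPoint k)]
      rfl
  have hsub : f.left ⁻¹' {f.left (ptOf x)} ⊆ Set.range j.left :=
    subset_of_pts (hcl.preimage f.left.continuous) j.left.isClosedEmbedding.isClosed_range fun y hy => by
      obtain ⟨h, rfl⟩ := hfib y (pt_ext (s := y ≫ f) (t := x ≫ f) hy)
      exact ⟨ptOf h, rfl⟩
  have hcz : topologicalKrullDim (closure ({z} : Set G.left)) ≤ (m : WithBot ℕ∞) := by
    refine le_trans ?_ hm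
    rw [← Groth.L22.SchemeDim.topologicalKrullDim_eq_of_isEmbedding j.left.isEmbedding rfl]
    refine IsInducing.topologicalKrullDim_le (f := Set.inclusion (closure_minimal
      (Set.singleton_subset_iff.2 (hsub hzf)) j.left.isClosedEmbedding.isClosed_range)) ?_
    exact IsEmbedding.isInducing (IsEmbedding.inclusion _)
  have haξ : (aξ : WithBot ℕ∞) ≤ (n : WithBot ℕ∞) := h2 ▸ (topologicalKrullDim_subspace_le X.left _).trans hn
  rw [h3] at hcz
  have e1 : aξ ≤ n := by exact_mod_cast haξ
  have e2 : cz ≤ m := by exact_mod_cast hcz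
  rw [hξ, (Homeomorph.Set.univ G.left).isHomeomorph.topologicalKrullDim_eq] at h1
  rw [h1]
  exact_mod_cast show cξ ≤ n + m by omega

/-- a torus in a group is at most as large as a maximal torus -/
theorem dim_torus_le {G T T' : Over (Spec (CommRingCat.of k))} [GrpObj G] [GrpObj T] [GrpObj T'] [IsAffine G.left]
    [Smooth G.hom] [ConnectedSpace G.left] {iT : T ⟶ G} (hT : AGF.IsMaxTorus iT) (v : T' ⟶ G) [IsMonHom v] [Mono v]
    (hT' : Red.IsTorus T') : topologicalKrullDim T'.left ≤ topologicalKrullDim T.left := by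
  haveI : QuasiCompact G.hom := quasiCompact_of_compactSpace _
  obtain ⟨T₂, g₂, i₂, h₂, g, f, hf⟩ := exists_maxTorus_absorb v hT'
  haveI := h₂.1; haveI := h₂.2.1
  haveI := isMonHom_conjBy g v
  haveI := mono_conjBy g v
  haveI : IsMonHom f := isMonHom_of_comp_mono f i₂ _ hf
  haveI : Mono f := by haveI : Mono (f ≫ i₂) := hf ▸ inferInstance; exact mono_of_mono f i₂
  haveI : LocallyOfFiniteType T₂.hom := by
    haveI := (Groth.L25.Locus.smooth_connected_torus h₂.2.2.1).1; infer_instance
  obtain ⟨hTa₂, -, -, -, -⟩ := torus_props h₂.2.2.1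
  haveI := hTa₂
  haveI : QuasiCompact T₂.hom := quasiCompact_of_compactSpace _
  rw [Groth.L24.TorusField.dim_maxTorus_eq (Groth.L24.TorusField.isMaximalTorus_of_isMaxTorus_field hT)
    (Groth.L24.TorusField.isMaximalTorus_of_isMaxTorus_field h₂)]
  haveI := Groth.Agent.AV.isSeparated_of_grpObj T₂
  haveI := Groth.L25.MonoClosed.isClosedImmersion_of_mono (Groth.L25.Locus.isMultTypeFT_of_isTorus hT') f
  exact f.left.isClosedEmbedding.isInducing.topologicalKrullDim_le

/-- A reductive group with at most two Borel subgroups through a maximal torus exceeds the torus in dimension by at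
most two. -/
theorem dim_le_add_two {C T : Over (Spec (CommRingCat.of k))} [GrpObj C] [GrpObj T]
    (hC : Red.IsReductiveOver k C) {iT : T ⟶ C} (Δ : Groth.L14.Luna.SemiRank.Setup C T iT) (hne : ¬ IsIso iT)
    {r : ℕ} (hr : topologicalKrullDim T.left ≤ (r : WithBot ℕ∞)) :
    topologicalKrullDim C.left ≤ ((r + 2 : ℕ) : WithBot ℕ∞) := by
  haveI := hC.1; haveI := hC.2.1; haveI := hC.2.2.1
  haveI := Δ.max.1; haveI := Δ.max.2.1
  haveI : LocallyOfFiniteType C.hom := inferInstance
  haveI : IsLocallyNoetherian C.left := LocallyOfFiniteType.isLocallyNoetherian C.hom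
  haveI : IrreducibleSpace C.left := Groth.L25.Component.irreducibleSpace C
  obtain ⟨B, B', gB, gB', iB, iB', u, u', hB, hB', hu, hu', hdist⟩ :=
    Groth.L06.CoxeterElt.exists_two_borels hC Δ.max hne
  haveI := hB.1; haveI := hB.2.1; haveI := hB.2.2.1; haveI := hB.2.2.2.1
  haveI := hB'.1; haveI := hB'.2.1
  haveI : Mono iB := Groth.L08.mono_of_closedImmersion iB
  haveI : IsAffine B.left := isAffine_of_isAffineHom iB.left
  haveI : LocallyOfFiniteType B.hom := inferInstance
  haveI : IsLocallyNoetherian B.left := LocallyOfFiniteType.isLocallyNoetherian B.hom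
  haveI : IrreducibleSpace B.left := Groth.L25.Component.irreducibleSpace B
  obtain ⟨X', a', o', hX'⟩ := exists_isQuotient iB'
  have hX'1 : topologicalKrullDim X'.left ≤ 1 := Δ.dim_quotient_le hB' hu' hX'
  obtain ⟨T', gT', jT', p, V, gV, v, hm, hmono, hT', hp, hip, hV, hvp, hker⟩ :=
    Groth.L14.Luna.exists_retraction_radical B hB.2.2.2.2.1
  obtain ⟨hvm, hvc, -, hVs, hVc, hVns⟩ := Groth.L14.Luna.unipotentRadical_data hV
  haveI := hm; haveI := hmono; haveI := hp; haveI := hvm; haveI := hvc; haveI := hVs; haveI := hVc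
  haveI : LocallyOfFiniteType V.hom := inferInstance
  haveI : IsLocallyNoetherian V.left := LocallyOfFiniteType.isLocallyNoetherian V.hom
  haveI : IrreducibleSpace V.left := Groth.L25.Component.irreducibleSpace V
  haveI : Mono v := Groth.L08.mono_of_closedImmersion v
  haveI : IsClosedImmersion (v ≫ iB).left := inferInstanceAs (IsClosedImmersion (v.left ≫ iB.left))
  -- the common part of the radical and the other Borel subgroup
  have hpb : IsPullback (pullback.fst (v ≫ iB) iB') (pullback.snd (v ≫ iB) iB') (v ≫ iB) iB' :=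
    IsPullback.of_hasPullback _ _
  haveI : Mono iB' := Groth.L08.mono_of_closedImmersion iB'
  haveI : Mono (pullback.fst (v ≫ iB) iB') := inferInstance
  obtain ⟨gD, hD⟩ := Groth.L14.Luna.exists_grpObj_pullback hpb
  letI := gD
  haveI := hD
  haveI : IsClosedImmersion (pullback.fst (v ≫ iB) iB').left :=
    MorphismProperty.of_isPullback (P := @IsClosedImmersion) (hpb.map (Over.forget _)).flip ‹IsClosedImmersion iB'.left›
  let D := pullback (v ≫ iB) iB'
  let d : D ⟶ V := pullback.fst (v ≫ iB) iB'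
  haveI : LocallyOfFiniteType D.hom := by
    rw [← Over.w d]
    haveI : IsClosedImmersion d.left := ‹_›
    infer_instance
  obtain ⟨C₀, gC₀, R₀, gR₀, c₀, j₀, hc₀, hc₀c, hj₀, hj₀c, -, -, hR₀s, hR₀c, hdimR⟩ :=
    Groth.L19.SpecSub.exists_idComp D
  haveI := hc₀; haveI := hc₀c; haveI := hj₀; haveI := hj₀c; haveI := hR₀s; haveI := hR₀c
  let w : R₀ ⟶ V := j₀ ≫ c₀ ≫ d
  haveI : IsClosedImmersion w.left := inferInstanceAs (IsClosedImmersion (j₀.left ≫ c₀.left ≫ d.left))
  haveI : IsMonHom w := inferInstanceAs (IsMonHom (j₀ ≫ c₀ ≫ d))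
  haveI : Mono w := Groth.L08.mono_of_closedImmersion w
  haveI : IsClosedImmersion (w ≫ v ≫ iB).left := inferInstanceAs (IsClosedImmersion (w.left ≫ (v ≫ iB).left))
  have hRns := Groth.L14.Luna.hasNoSubtorus_of_mono w hVns
  have h1 : w ≫ v ≫ iB = 1 :=
    Groth.L14.Luna.eq_one_of_borels hC Δ.max (w ≫ v ≫ iB) hRns fun B'' _ iB'' t'' hB'' ht'' => by
      rcases Δ.trichotomy hB hB' hB'' hu hu' ht'' with h | ⟨e, he⟩ | ⟨e, he⟩
      · exact absurd h hdist
      · exact ⟨w ≫ v ≫ e.hom, by simp only [Category.assoc, he]⟩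
      · exact ⟨j₀ ≫ c₀ ≫ pullback.snd (v ≫ iB) iB' ≫ e.hom, by
          simp only [w, d, Category.assoc, he, hpb.w]⟩
  have hR1 : 𝟙 R₀ = 1 := by
    rw [← cancel_mono w, ← cancel_mono (v ≫ iB)]
    simp only [Category.id_comp, h1, MonObj.one_comp]
  have hR0 : topologicalKrullDim D.left ≤ ((0 : ℕ) : WithBot ℕ∞) := by
    rw [← hdimR]
    haveI : Subsingleton R₀.left := by
      haveI : IsIso R₀.hom := Groth.L14.Luna.isTrivialGrp_of_id_eq_one hR1
      haveI : Subsingleton ↥(Spec (CommRingCat.of k)) := inferInstanceAs (Subsingleton (PrimeSpectrum k))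
      exact R₀.hom.homeomorph.injective.subsingleton
    exact_mod_cast topologicalKrullDim_zero_of_discreteTopology R₀.left
  -- the radical is at most one-dimensional
  haveI := hX'.1
  haveI := isProper_quotient_of_borel hB' hX'
  have hV1 : topologicalKrullDim V.left ≤ ((1 + 0 : ℕ) : WithBot ℕ∞) := by
    refine dim_le_of_fibre ((v ≫ iB) ≫ a'.orbitMap o') d (1 : U1 ⟶ V) (fun y hy => ?_) (by exact_mod_cast hX'1) hR0
    rw [← Category.assoc, ← Category.assoc (1 : U1 ⟶ V), MonObj.one_comp] at hy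
    obtain ⟨z, hz⟩ := (orbitMap_eq_iff hX' _ _).1 hy.symm
    rw [inv_one, _root_.one_mul] at hz
    exact ⟨hpb.lift y z hz.symm, hpb.lift_fst _ _ _⟩
  -- the Borel subgroup
  obtain ⟨hTa', hTs', hTc', -, -⟩ := torus_props hT'
  haveI := hTs'
  haveI : IsSeparated T'.hom := Groth.Agent.AV.isSeparated_of_grpObj T'
  have hB1 : topologicalKrullDim B.left ≤ ((r + 1 : ℕ) : WithBot ℕ∞) := by
    refine dim_le_of_fibre p v (1 : U1 ⟶ B) (fun y hy => hker U1 y (by rw [hy, MonObj.one_comp])) ?_
      (by simpa using hV1)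
    haveI : Mono (jT' ≫ iB) := mono_comp _ _
    exact (dim_torus_le Δ.max (jT' ≫ iB) hT').trans hr
  -- the group
  obtain ⟨X, a, o, hX⟩ := exists_isQuotient iB
  haveI := hX.1
  haveI := isProper_quotient_of_borel hB hX
  have hX1 : topologicalKrullDim X.left ≤ 1 := Δ.dim_quotient_le hB hu hX
  have h := dim_le_of_fibre (a.orbitMap o) iB (1 : U1 ⟶ C) (fun y hy => by
    obtain ⟨z, hz⟩ := (orbitMap_eq_iff hX _ _).1 hy.symm
    exact ⟨z, by rw [hz, inv_one, _root_.one_mul]⟩) (n := 1) (by exact_mod_cast hX1) hB1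
  simpa [add_comm, add_left_comm] using h

end Groth.L06.RootLines
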