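import Groth.Agent.L06.RootLines.Centralizer
import Groth.Agent.L25.MultType.Diag
import Groth.Agent.L08.Borel.MaxTorusDesc
import Groth.Agent.L24.TorusField.Criteria
import Groth.Agent.L24.ReductiveBC.Basic

/-!
# Root lines of a reductive group over a field
-/

set_option autoImplicit false
set_option linter.unusedSectionVars false
set_option linter.style.haveILetI false
set_option backward.isDefEq.respectTransparency.types false
set_option maxHeartbeats 1000000

universe u

open CategoryTheory CategoryTheory.Limits MonoidalCategory CartesianMonoidalCategory MonObj GrpObj AlgebraicGeometry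
open WithConv Groth.L06.CoxeterElt TensorProduct
open Groth.L25.Dyn (torO torP cstM pmap mapAlgHom_torO resPt)
open AddMonoidAlgebra (mapAlgHom mapAlgHom_single)
open Groth.L08.AugGraded (IsTangent)
open Groth.L25.Bridge (P)
open Groth.L08.TorusQuot (sp sp_left sp_comp exists_sp toPt ofPt toPt_ofPt toPt_pre SP pre)

noncomputable section

namespace Groth.L06.RootLines

variable {k : Type u} [Field k] (K : Type u) [Field K] [Algebra k K] {r : ℕ}

/-- `K ⊗ k[M] ≅ K[M]` -/
def dBase (r : ℕ) : (K ⊗[k] TB k r) ≃ₐc[K] TB K r :=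
  ((Groth.L25.MultType.baseChangeEquiv (R := k) (S := K)
      (AddMonoidAlgebra.toMultiplicativeBialgEquiv k k (Fin r → ℤ))).trans
    (Groth.L25.MultType.scalarBialg k K (Multiplicative (Fin r → ℤ))).symm).trans
    (AddMonoidAlgebra.toMultiplicativeBialgEquiv K K (Fin r → ℤ)).symm

theorem dBase_tmul (c : K) (m : Fin r → ℤ) (x : k) :
    dBase (k := k) K r (c ⊗ₜ AddMonoidAlgebra.single m x) = AddMonoidAlgebra.single m (c * algebraMap k K x) := by
  have h1 : ∀ c : K, dBase (k := k) K r (c ⊗ₜ AddMonoidAlgebra.single m 1) = AddMonoidAlgebra.single m c := fun c => by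
    show (AddMonoidAlgebra.toMultiplicativeBialgEquiv K K (Fin r → ℤ)).symm
      ((Groth.L25.MultType.scalarBialg k K (Multiplicative (Fin r → ℤ))).symm
        (Groth.L25.MultType.baseChangeEquiv (R := k) (S := K)
          (AddMonoidAlgebra.toMultiplicativeBialgEquiv k k (Fin r → ℤ)) (c ⊗ₜ AddMonoidAlgebra.single m 1))) = _
    refine (AddMonoidAlgebra.toMultiplicativeBialgEquiv K K (Fin r → ℤ)).injective ?_
    refine ((AddMonoidAlgebra.toMultiplicativeBialgEquiv K K (Fin r → ℤ)).apply_symm_apply _).trans ?_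
    refine (Groth.L25.MultType.scalarBialg k K (Multiplicative (Fin r → ℤ))).injective ?_
    refine ((Groth.L25.MultType.scalarBialg k K (Multiplicative (Fin r → ℤ))).apply_symm_apply _).trans ?_
    have e1 : (Groth.L25.MultType.baseChangeEquiv (R := k) (S := K)
        (AddMonoidAlgebra.toMultiplicativeBialgEquiv k k (Fin r → ℤ))) (c ⊗ₜ AddMonoidAlgebra.single m 1) =
        c ⊗ₜ MonoidAlgebra.single (Multiplicative.ofAdd m) 1 := by
      simp [Groth.L25.MultType.baseChangeEquiv]
    have e2 : (AddMonoidAlgebra.toMultiplicativeBialgEquiv K K (Fin r → ℤ)) (AddMonoidAlgebra.single m c) =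
        MonoidAlgebra.single (Multiplicative.ofAdd m) c := by simp
    refine e1.trans (Eq.trans ?_ (congrArg (Groth.L25.MultType.scalarBialg k K (Multiplicative (Fin r → ℤ))) e2).symm)
    exact (Groth.L25.MultType.scalarHom_single k K _ (Multiplicative.ofAdd m) c).symm
  have e : c ⊗ₜ[k] (AddMonoidAlgebra.single m x : TB k r) =
      (c * algebraMap k K x) ⊗ₜ[k] (AddMonoidAlgebra.single m 1 : TB k r) := by
    rw [mul_comm c, ← Algebra.smul_def, TensorProduct.smul_tmul, AddMonoidAlgebra.smul_single', _root_.mul_one]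
  rw [e, h1]

variable {A : Type u} [CommRing A] [HopfAlgebra k A] (φ : A →ₐc[k] TB k r)

/-- the base change of the torus of a coordinate ring -/
def phiK : (K ⊗[k] A) →ₐc[K] TB K r :=
  (dBase (k := k) K r : (K ⊗[k] TB k r) →ₐc[K] TB K r).comp (Bialgebra.TensorProduct.map (BialgHom.id K K) φ)

theorem phiK_tmul (c : K) (a : A) : phiK K φ (c ⊗ₜ a) = dBase (k := k) K r (c ⊗ₜ φ a) := by
  simp [phiK]

theorem resPt_torP (D : Type u) [CommRing D] [Algebra k D] [Algebra K D] [IsScalarTower k K D] :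
    resPt (k := k) (torP (phiK K φ) D) = torP φ D := by
  refine WithConv.ext (AlgHom.ext fun a => ?_)
  show mapAlgHom _ (Algebra.ofId K D) (phiK K φ ((1 : K) ⊗ₜ a)) = mapAlgHom _ (Algebra.ofId k D) (φ a)
  rw [phiK_tmul]
  generalize φ a = z
  induction z using AddMonoidAlgebra.induction_linear with
  | zero => simp
  | add u v hu hv => simp only [map_add, tmul_add, hu, hv]
  | single i x =>
    rw [dBase_tmul, _root_.one_mul, mapAlgHom_single, mapAlgHom_single]
    simp [Algebra.ofId_apply]

theorem torO_one_tmul (a : A) :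
    torO (phiK K φ) ((1 : K) ⊗ₜ a) =
      mapAlgHom (Fin r → ℤ) (Algebra.TensorProduct.includeRight : A →ₐ[k] K ⊗[k] A) (torO φ a) := by
  have h : resPt (k := k) (toConv (torO (phiK K φ))) =
      pmap (mapAlgHom (Fin r → ℤ) (Algebra.TensorProduct.includeRight : A →ₐ[k] K ⊗[k] A)) (toConv (torO φ)) := by
    rw [mapAlgHom_torO, torO, toConv_ofConv, map_mul, map_mul, map_inv, resPt_torP]
    congr 2
  exact DFunLike.congr_fun (congrArg WithConv.ofConv h) a

theorem piece_tmul (c : K) (a : A) (m : Fin r → ℤ) : piece (phiK K φ) m (c ⊗ₜ a) = c ⊗ₜ piece φ m a := by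
  have h : (c ⊗ₜ[k] a : K ⊗[k] A) = c • ((1 : K) ⊗ₜ[k] a) := by rw [TensorProduct.smul_tmul', smul_eq_mul, _root_.mul_one]
  rw [h, ← pieceL_apply, map_smul, pieceL_apply]
  show c • (torO (phiK K φ) ((1 : K) ⊗ₜ a)).coeff m = _
  rw [torO_one_tmul]
  simp [piece, TensorProduct.smul_tmul']

/-- the extension of a functional -/
def extK : (A →ₗ[k] k) →ₗ[k] (K ⊗[k] A →ₗ[K] K) :=
  { toFun := fun w => (Algebra.TensorProduct.rid k K K).toLinearMap ∘ₗ w.baseChange K
    map_add' := fun u v => by rw [LinearMap.baseChange_add, LinearMap.comp_add]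
    map_smul' := fun c v => LinearMap.ext fun z => by
      induction z using TensorProduct.induction_on with
      | zero => simp
      | add p q hp hq => simp only [map_add, hp, hq]
      | tmul d a =>
        simp only [LinearMap.comp_apply, LinearMap.baseChange_tmul, LinearMap.smul_apply, RingHom.id_apply,
          AlgEquiv.toLinearMap_apply, Algebra.TensorProduct.rid_tmul, smul_eq_mul]
        simp only [Algebra.smul_def, map_mul, mul_comm, mul_left_comm] }

theorem extK_tmul (w : A →ₗ[k] k) (c : K) (a : A) : extK K w (c ⊗ₜ a) = c * algebraMap k K (w a) := by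
  simp [extK, Algebra.smul_def, mul_comm]

theorem counit_tmul' (c : K) (a : A) :
    Bialgebra.counitAlgHom K (K ⊗[k] A) (c ⊗ₜ a) = c * algebraMap k K (Bialgebra.counitAlgHom k A a) := by
  simp [TensorProduct.counit_tmul, Algebra.smul_def, mul_comm]

theorem extK_mem {m : Fin r → ℤ} {w : A →ₗ[k] k} (hw : w ∈ Wt φ m) : extK K w ∈ Wt (phiK K φ) m := by
  refine ⟨fun a b => ?_, fun n z hn => ?_⟩
  · induction a using TensorProduct.induction_on with
    | zero => simp
    | add p q hp hq => simp only [add_mul, map_add, hp, hq]; ring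
    | tmul c a =>
      induction b using TensorProduct.induction_on with
      | zero => simp
      | add p q hp hq => simp only [mul_add, map_add, hp, hq]; ring
      | tmul d b =>
        rw [Algebra.TensorProduct.tmul_mul_tmul, extK_tmul, extK_tmul, extK_tmul, counit_tmul',
          counit_tmul', hw.1 a b, map_add, map_mul, map_mul]
        ring
  · induction z using TensorProduct.induction_on with
    | zero => simp [piece]
    | add p q hp hq => rw [piece_add, map_add, hp, hq, add_zero]
    | tmul c a => rw [piece_tmul, extK_tmul, hw.2 n a hn, map_zero, mul_zero]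

theorem eq_zero_of_extend {σ : Type*} [Fintype σ] {W : Type u} [AddCommGroup W] [Module k W] {w : σ → (W →ₗ[k] k)}
    (hw : LinearIndependent k w) (g : σ → K) (h : ∀ a, ∑ i, g i * algebraMap k K (w i a) = 0) : g = 0 := by
  classical
  let bK := Module.Free.chooseBasis k K
  funext j
  refine bK.repr.injective (Finsupp.ext fun l => ?_)
  rw [Pi.zero_apply, map_zero, Finsupp.zero_apply]
  refine Fintype.linearIndependent_iff.1 hw (fun i => bK.repr (g i) l) (LinearMap.ext fun a => ?_) j
  have h1 : bK.repr (∑ i, g i * algebraMap k K (w i a)) l = 0 := by rw [h a, map_zero, Finsupp.zero_apply]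
  rw [map_sum, Finsupp.finsetSum_apply] at h1
  rw [LinearMap.sum_apply, LinearMap.zero_apply, ← h1]
  refine Finset.sum_congr rfl fun i _ => ?_
  rw [mul_comm (g i), ← Algebra.smul_def, map_smul, Finsupp.smul_apply, LinearMap.smul_apply, smul_eq_mul, smul_eq_mul,
    mul_comm]

theorem exists_li_fun {V : Type u} [AddCommGroup V] [Module k V] (W : Submodule k V) [Module.Finite k W] :
    ∃ v : Fin (Module.finrank k W) → V, (∀ i, v i ∈ W) ∧ LinearIndependent k v :=
  ⟨fun i => ((Module.finBasis k W i : W) : V), fun i => (Module.finBasis k W i).2,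
    (Module.finBasis k W).linearIndependent.map' W.subtype (Submodule.ker_subtype W)⟩

theorem finrank_Wt_le [Algebra.FiniteType k A] (m : Fin r → ℤ) :
    Module.finrank k (Wt φ m) ≤ Module.finrank K (Wt (phiK K φ) m) := by
  haveI : Module.Finite k (Wt φ m) := Submodule.finiteDimensional_of_le (Wt_le φ m)
  haveI : Module.Finite K (Wt (phiK K φ) m) := Submodule.finiteDimensional_of_le (Wt_le (phiK K φ) m)
  obtain ⟨v, hv, hli⟩ := exists_li_fun (Wt φ m)
  let L : (Fin (Module.finrank k (Wt φ m)) → K) →ₗ[K] Wt (phiK K φ) m :=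
    Fintype.linearCombination K fun i => ⟨extK K (v i), extK_mem K φ (hv i)⟩
  have hL : Function.Injective L := by
    refine (injective_iff_map_eq_zero _).2 fun g hg => eq_zero_of_extend K hli g fun a => ?_
    have h : ((L g : Wt (phiK K φ) m) : K ⊗[k] A →ₗ[K] K) ((1 : K) ⊗ₜ a) = 0 := by rw [hg]; rfl
    rw [Fintype.linearCombination_apply, Submodule.coe_sum, LinearMap.sum_apply] at h
    refine Eq.trans (Finset.sum_congr rfl fun i _ => ?_) h
    show g i * algebraMap k K (v i a) = g i * extK K (v i) ((1 : K) ⊗ₜ a)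
    rw [extK_tmul, _root_.one_mul]
  simpa using LinearMap.finrank_le_finrank_of_injective hL

theorem Wt_ne_bot_of_K [Algebra.FiniteType k A] {m : Fin r → ℤ} (hm : m ≠ 0) (h : Wt (phiK K φ) m ≠ ⊥) :
    Wt φ m ≠ ⊥ := by
  rw [Wt_ne_bot_iff φ hm]
  rw [Wt_ne_bot_iff (phiK K φ) hm] at h
  obtain ⟨z, hz⟩ := h
  by_contra hcon
  push Not at hcon
  refine hz ?_
  clear hz
  induction z using TensorProduct.induction_on with
  | zero => simp [piece]
  | add p q hp hq => rw [piece_add]; exact Ideal.add_mem _ hp hq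
  | tmul c a =>
    rw [piece_tmul]
    have h2 : (1 : K) ⊗ₜ[k] piece φ m a ∈ aug K (K ⊗[k] A) ^ 2 := by
      have h3 := Ideal.mem_map_of_mem (Algebra.TensorProduct.includeRight : A →ₐ[k] K ⊗[k] A) (hcon a)
      rw [Ideal.map_pow] at h3
      refine Ideal.pow_right_mono (Ideal.map_le_iff_le_comap.2 fun x hx => ?_) 2 h3
      rw [Ideal.mem_comap, RingHom.mem_ker]
      show Bialgebra.counitAlgHom K (K ⊗[k] A) ((1 : K) ⊗ₜ[k] x) = 0
      rw [counit_tmul', RingHom.mem_ker.1 hx, map_zero, mul_zero]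
    have h4 := Submodule.smul_of_tower_mem (aug K (K ⊗[k] A) ^ 2) c h2
    rwa [TensorProduct.smul_tmul', smul_eq_mul, _root_.mul_one] at h4

/-! ### the geometric fibre -/

theorem bcIso_natural {B : Type u} [CommRing B] [HopfAlgebra k B] (f : B →ₐc[k] A) :
    (Over.pullback (Spec.map (CommRingCat.ofHom (algebraMap k K)))).map (sp f) ≫
        (Groth.L25.Bridge.bcIso k B K).hom.hom.hom =
      (Groth.L25.Bridge.bcIso k A K).hom.hom.hom ≫ sp (Bialgebra.TensorProduct.map (BialgHom.id K K) f) := by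
  refine Over.OverMorphism.ext ?_
  let g : pullback (Spec (CommRingCat.of A) ↘ Spec (CommRingCat.of k))
      (Spec (CommRingCat.of K) ↘ Spec (CommRingCat.of k)) ⟶
      pullback (Spec (CommRingCat.of B) ↘ Spec (CommRingCat.of k))
        (Spec (CommRingCat.of K) ↘ Spec (CommRingCat.of k)) :=
    ((Over.pullback (Spec.map (CommRingCat.ofHom (algebraMap k K)))).map (sp f)).left
  show g ≫ (pullbackSymmetry _ _ ≪≫ pullbackSpecIso' k K B).hom =
    (pullbackSymmetry _ _ ≪≫ pullbackSpecIso' k K A).hom ≫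
      Spec.map (CommRingCat.ofHom ((Bialgebra.TensorProduct.map (BialgHom.id K K) f :
        (K ⊗[k] B) →ₐc[K] (K ⊗[k] A)) : (K ⊗[k] B) →+* (K ⊗[k] A)))
  rw [← cancel_mono ((pullbackSymmetry _ _ ≪≫ pullbackSpecIso' k K B).inv),
    ← cancel_epi ((pullbackSymmetry _ _ ≪≫ pullbackSpecIso' k K A).inv)]
  simp only [Category.assoc, Iso.trans_hom, Iso.trans_inv, Iso.hom_inv_id, Category.comp_id, Iso.inv_hom_id_assoc,
    Iso.hom_inv_id_assoc]
  have eA1 : (pullbackSpecIso' k K A).inv ≫ pullback.fst _ _ =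
      Spec.map (CommRingCat.ofHom (Algebra.TensorProduct.includeLeftRingHom (R := k) (A := K) (B := A))) :=
    pullbackSpecIso_inv_fst k K A
  have eA2 : (pullbackSpecIso' k K A).inv ≫ pullback.snd _ _ =
      Spec.map (CommRingCat.ofHom ((Algebra.TensorProduct.includeRight : A →ₐ[k] K ⊗[k] A) : A →+* K ⊗[k] A)) :=
    pullbackSpecIso_inv_snd k K A
  have eB1 : (pullbackSpecIso' k K B).inv ≫ pullback.fst _ _ =
      Spec.map (CommRingCat.ofHom (Algebra.TensorProduct.includeLeftRingHom (R := k) (A := K) (B := B))) :=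
    pullbackSpecIso_inv_fst k K B
  have eB2 : (pullbackSpecIso' k K B).inv ≫ pullback.snd _ _ =
      Spec.map (CommRingCat.ofHom ((Algebra.TensorProduct.includeRight : B →ₐ[k] K ⊗[k] B) : B →+* K ⊗[k] B)) :=
    pullbackSpecIso_inv_snd k K B
  apply pullback.hom_ext
  · simp only [Category.assoc]
    rw [show g ≫ pullback.fst _ _ = pullback.fst _ _ ≫ Spec.map (CommRingCat.ofHom (f : B →+* A)) from
      pullback.lift_fst _ _ _]
    simp only [pullbackSymmetry_inv_comp_fst, pullbackSymmetry_inv_comp_fst_assoc]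
    rw [reassoc_of% eA2, eB2]
    simp only [← Spec.map_comp]
    congr 1
  · simp only [Category.assoc]
    rw [show g ≫ pullback.snd _ _ = pullback.snd _ _ from pullback.lift_snd _ _ _]
    simp only [pullbackSymmetry_inv_comp_snd]
    rw [eA1, eB1]
    simp only [← Spec.map_comp]
    congr 1
    refine CommRingCat.hom_ext (RingHom.ext fun c => ?_)
    show c ⊗ₜ[k] (1 : A) = Bialgebra.TensorProduct.map (BialgHom.id K K) f (c ⊗ₜ 1)
    simp

theorem exists_bcTorus {B B' : Type u} [CommRing B] [HopfAlgebra k B] [CommRing B'] [HopfAlgebra K B']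
    (d : (K ⊗[k] B) ≃ₐc[K] B') (f : A →ₐc[k] B) :
    ∃ e : P K B' ≅ Red.bc (Spec.map (CommRingCat.ofHom (algebraMap k K))) (P k B), IsMonHom e.hom ∧
      sp ((d : (K ⊗[k] B) →ₐc[K] B').comp (Bialgebra.TensorProduct.map (BialgHom.id K K) f)) =
        e.hom ≫ (Over.pullback (Spec.map (CommRingCat.ofHom (algebraMap k K)))).map (sp f) ≫
          (Groth.L25.Bridge.bcIso k A K).hom.hom.hom := by
  let bT : Red.bc (Spec.map (CommRingCat.ofHom (algebraMap k K))) (P k B) ≅ P K (K ⊗[k] B) :=
    (Grp.forget _).mapIso (Groth.L25.Bridge.bcIso k B K)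
  haveI : IsMonHom bT.hom := (Groth.L25.Bridge.bcIso k B K).hom.hom.isMonHom_hom
  let sd := sp (d : (K ⊗[k] B) →ₐc[K] B')
  let sd' := sp (d.symm : B' →ₐc[K] (K ⊗[k] B))
  let eT : P K B' ≅ Red.bc (Spec.map (CommRingCat.ofHom (algebraMap k K))) (P k B) :=
    { hom := sd ≫ bT.inv
      inv := bT.hom ≫ sd'
      hom_inv_id := by
        rw [Category.assoc, Iso.inv_hom_id_assoc]
        exact sp_retract K _ _ d.apply_symm_apply
      inv_hom_id := by
        rw [Category.assoc, ← Category.assoc sd', sp_retract K _ _ d.symm_apply_apply, Category.id_comp,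
          Iso.hom_inv_id] }
  refine ⟨eT, inferInstanceAs (IsMonHom (sd ≫ bT.inv)), ?_⟩
  rw [← sp_comp, bcIso_natural]
  show sd ≫ _ = (sd ≫ bT.inv) ≫ bT.hom ≫ _
  rw [Category.assoc, Iso.inv_hom_id_assoc]

variable {G : Over (Spec (CommRingCat.of k))} [GrpObj G] {iT : TT k r ⟶ G} (jG : G ⟶ P k A) [IsMonHom jG] [IsIso jG]

/-- the base change of a maximal torus to an algebraically closed extension -/
theorem exists_geometric [IsAlgClosed K] (hG : Red.IsReductive G) (hT : Red.IsMaximalTorus iT)
    (hφ : sp φ = iT ≫ jG) :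
    ∃ (GK : Over (Spec (CommRingCat.of K))) (_ : GrpObj GK) (iK : TT K r ⟶ GK) (jK : GK ⟶ P K (K ⊗[k] A))
      (_ : IsMonHom jK) (_ : IsIso jK),
      Red.IsReductiveOver K GK ∧ AGF.IsMaxTorus iK ∧ sp (phiK K φ) = iK ≫ jK := by
  let θ := Spec.map (CommRingCat.ofHom (algebraMap k K))
  haveI := hT.1; haveI := hT.2.1
  haveI := hG.1; haveI := hG.2.1
  haveI : IsAffine G.left := isAffine_of_isAffineHom G.hom
  haveI : QuasiCompact G.hom := quasiCompact_of_compactSpace _
  let F := Over.pullback θ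
  haveI : IsMonHom (F.map jG) := Groth.L25.MonoClosed.isMonHom_pullbackMap _ _
  haveI : IsMonHom (Groth.L25.Bridge.bcIso k A K).hom.hom.hom :=
    (Groth.L25.Bridge.bcIso k A K).hom.hom.isMonHom_hom
  haveI : IsIso (Groth.L25.Bridge.bcIso k A K).hom.hom.hom :=
    ((Grp.forget _).mapIso (Groth.L25.Bridge.bcIso k A K)).isIso_hom
  let jK : Red.bc θ G ⟶ P K (K ⊗[k] A) := F.map jG ≫ (Groth.L25.Bridge.bcIso k A K).hom.hom.hom
  obtain ⟨eT, heTm, heT⟩ := exists_bcTorus K (dBase (k := k) K r) φ
  haveI := heTm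
  haveI : IsIso eT.hom := eT.isIso_hom
  have hTK := Groth.L08.Borel.isMaximalTorus_bc hT θ
  haveI := hTK.1
  refine ⟨Red.bc θ G, inferInstance, eT.hom ≫ F.map iT, jK, inferInstanceAs (IsMonHom (F.map jG ≫ _)),
    inferInstanceAs (IsIso (F.map jG ≫ _)), Groth.L24.ReductiveBC.isReductiveOver_point hG θ, ?_, ?_⟩
  · exact Groth.L24.TorusField.isMaxTorus_of_isMaximalTorus_field
      (Groth.L24.TorusField.isMaximalTorus_iso_comp hTK eT.hom (isTorus_TT K r))
  · refine heT.trans ?_
    rw [Category.assoc, hφ, Functor.map_comp, Category.assoc]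

/-- **root lines over a field** -/
theorem root_line_field [Algebra.FiniteType k A] (hG : Red.IsReductive G) (hT : Red.IsMaximalTorus iT)
    (hφ : sp φ = iT ≫ jG) {a : Fin r → ℤ} (ha : a ≠ 0) (hW : Wt φ a ≠ ⊥) :
    Module.finrank k (Wt φ a) = 1 ∧ Wt φ (-a) ≠ ⊥ ∧
      ∀ b, b ≠ 0 → Wt φ b ≠ ⊥ → Prop' a b → b = a ∨ b = -a := by
  let K := AlgebraicClosure k
  obtain ⟨GK, gK, iK, jK, hjm, hji, hred, hmax, hsp⟩ := exists_geometric K φ jG hG hT hφ
  haveI : ∀ m, Module.Finite k (Wt φ m) := fun m => Submodule.finiteDimensional_of_le (Wt_le φ m)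
  haveI : ∀ m, Module.Finite K (Wt (phiK K φ) m) := fun m =>
    Submodule.finiteDimensional_of_le (Wt_le (phiK K φ) m)
  have hup : ∀ m, Wt φ m ≠ ⊥ → Wt (phiK K φ) m ≠ ⊥ := fun m h e => by
    have h1 := finrank_Wt_le K φ m
    have h2 := Submodule.one_le_finrank_iff.2 h
    rw [e, finrank_bot] at h1
    omega
  obtain ⟨h1, h2, h3⟩ := root_line jK hred hmax hsp ha (hup a hW)
  refine ⟨le_antisymm (h1 ▸ finrank_Wt_le K φ a) (Submodule.one_le_finrank_iff.2 hW),
    Wt_ne_bot_of_K K φ (neg_ne_zero.2 ha) (fun e => by rw [e, finrank_bot] at h2; exact absurd h2 zero_ne_one), ?_⟩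
  exact fun b hb hWb hab => h3 b hb (hup b hWb) hab

/-- a torus which is not everything has a weight -/
theorem exists_weight_field [Algebra.FiniteType k A] (hG : Red.IsReductive G) (hT : Red.IsMaximalTorus iT)
    (hφ : sp φ = iT ≫ jG) (hne : ¬ IsIso iT) : ∃ a : Fin r → ℤ, a ≠ 0 ∧ Wt φ a ≠ ⊥ := by
  let K := AlgebraicClosure k
  obtain ⟨GK, gK, iK, jK, hjm, hji, hred, hmax, hsp⟩ := exists_geometric K φ jG hG hT hφ
  haveI := hT.1; haveI := hT.2.1
  haveI := hG.1; haveI := hG.2.1
  haveI : IsAffine G.left := isAffine_of_isAffineHom G.hom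
  have hne' : ¬ IsIso iK := by
    intro hiso
    haveI : IsIso (sp (phiK K φ)) := hsp ▸ inferInstance
    haveI : IsMonHom (CategoryTheory.inv (sp (phiK K φ))) := inferInstanceAs (IsMonHom (asIso (sp (phiK K φ))).inv)
    have hinj : Function.Injective (phiK K φ) := by
      intro x y hxy
      obtain ⟨ψ, hψ⟩ := exists_sp (inv (sp (phiK K φ)))
      have h : ψ.comp (phiK K φ) = BialgHom.id K _ := sp_injective (by
        rw [← sp_comp, hψ, IsIso.inv_hom_id]
        exact (sp_retract K (BialgHom.id K _) (BialgHom.id K _) fun x => rfl).symm.trans (sp_comp _ _))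
      exact (DFunLike.congr_fun h x).symm.trans ((congrArg ψ hxy).trans (DFunLike.congr_fun h y))
    have hinjk : Function.Injective φ := fun x y hxy => by
      refine Algebra.TensorProduct.includeRight_injective (A := K) (algebraMap k K).injective (hinj ?_)
      show phiK K φ ((1 : K) ⊗ₜ x) = phiK K φ ((1 : K) ⊗ₜ y)
      rw [phiK_tmul, phiK_tmul, hxy]
    haveI : QuasiCompact G.hom := quasiCompact_of_compactSpace _
    haveI : IsClosedImmersion iT.left :=
      Groth.L25.Locus.isClosedImmersion_of_mono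
        (Groth.L25.Locus.locally_of_multTypeFT (Groth.L25.Locus.isMultTypeFT_of_isTorus hT.2.2.1)) iT
    haveI : IsIso jG.left := inferInstanceAs (IsIso ((Over.forget _).map jG))
    have hsurj : Function.Surjective φ := by
      haveI : IsClosedImmersion (sp φ).left := by
        rw [hφ]; exact inferInstanceAs (IsClosedImmersion (iT.left ≫ jG.left))
      exact surjective_of_closedImm
    let e := RingEquiv.ofBijective (φ : A →+* TB k r) ⟨hinjk, hsurj⟩
    haveI : IsIso (sp φ).left := by
      rw [sp_left]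
      exact inferInstanceAs (IsIso (Spec.map e.toCommRingCatIso.hom))
    haveI : IsIso ((Over.forget _).map (sp φ)) := ‹IsIso (sp φ).left›
    haveI : IsIso (sp φ) := isIso_of_reflects_iso _ (Over.forget _)
    exact hne (by
      haveI : IsIso (iT ≫ jG) := hφ ▸ inferInstance
      exact IsIso.of_isIso_comp_right iT jG)
  obtain ⟨a, ha, hW⟩ := exists_weight_ne jK hred hmax hsp hne'
  exact ⟨a, ha, Wt_ne_bot_of_K K φ ha hW⟩

end Groth.L06.RootLines
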