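import Groth.Agent.L06.RootLines.Bridge

/-!
# Roots of a reductive group with a split maximal torus over a field
-/

set_option autoImplicit false
set_option linter.unusedSectionVars false
set_option linter.style.haveILetI false
set_option backward.isDefEq.respectTransparency.types false
set_option maxHeartbeats 1000000

universe u v

open CategoryTheory CategoryTheory.Limits MonoidalCategory CartesianMonoidalCategory MonObj GrpObj AlgebraicGeometry
open Groth.L06.CoxeterElt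
open Groth.L25.Bridge (P)
open Groth.L08.TorusQuot (sp sp_left exists_sp)

noncomputable section

namespace Groth.L06.RootLines

variable {k : Type u} [Field k]

/-- the character lattice of a torus split by an arbitrary group -/
theorem exists_splitRank {T : Over (Spec (CommRingCat.of k))} [GrpObj T] (hT : Red.IsTorus T) {M : Type}
    [AddCommGroup M] (hM : Red.IsSplitTorusWith M T) : ∃ r : ℕ, Red.IsSplitTorusWith (Fin r → ℤ) T := by
  obtain ⟨e⟩ := hM
  obtain ⟨K, _, _, r, ⟨e'⟩⟩ := Groth.L25.Dyn.exists_field_split hT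
  let θ := Spec.map (CommRingCat.ofHom (algebraMap k K))
  let b : Grp.mk (Red.bc θ T) ≅ Grp.mk (Red.DS (Spec (CommRingCat.of K)) M) :=
    (Over.pullback θ).mapGrp.mapIso e ≪≫
      Grp.mkIso' (ActBC.bcCompIso θ (Limits.IsTerminal.from specULiftZIsTerminal _) (Red.diag (ULift.{u} ℤ) M)
        (specULiftZIsTerminal.hom_ext _ _))
  obtain ⟨g⟩ := Groth.L25.TorLift.addEquiv_of_ds (b.symm ≪≫ e')
  exact ⟨r, ⟨e ≪≫ Groth.L25.TorLift.dsCongr _ g⟩⟩

/-- the torus of a lattice, with its coordinate presentation -/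
theorem exists_isoTT {T : Over (Spec (CommRingCat.of k))} [GrpObj T] {r : ℕ}
    (h : Red.IsSplitTorusWith (Fin r → ℤ) T) : ∃ e : TT k r ≅ T, IsMonHom e.hom ∧ IsMonHom e.inv := by
  obtain ⟨e'⟩ := h
  let d : T ≅ Red.DS (Spec (CommRingCat.of k)) (Fin r → ℤ) := (Grp.forget _).mapIso e'
  haveI : IsMonHom d.hom := e'.hom.hom.isMonHom_hom
  haveI : IsMonHom d.inv := e'.inv.hom.isMonHom_hom
  haveI : IsMonHom (inv (toDS k r)) := inferInstanceAs (IsMonHom (asIso (toDS k r)).inv)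
  let e : TT k r ≅ T := asIso (toDS k r) ≪≫ d.symm
  exact ⟨e, inferInstanceAs (IsMonHom (toDS k r ≫ d.inv)), inferInstanceAs (IsMonHom (d.hom ≫ inv (toDS k r)))⟩

variable {G T : Over (Spec (CommRingCat.of k))} [GrpObj G] [GrpObj T]

variable (G T) in
/-- coordinates for a group and a split torus in it -/
structure Coords (i : T ⟶ G) where
  r : ℕ
  A : Type u
  [cr : CommRing A]
  [hopf : HopfAlgebra k A]
  [ft : Algebra.FiniteType k A]
  eq : G ≅ P k A
  [eqm : IsMonHom eq.hom]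
  e : TT k r ≅ T
  [ehm : IsMonHom e.hom]
  [eim : IsMonHom e.inv]
  φ : A →ₐc[k] TB k r
  hφ : sp φ = e.hom ≫ i ≫ eq.hom

attribute [instance] Coords.cr Coords.hopf Coords.ft Coords.eqm Coords.ehm Coords.eim

theorem exists_coords (hG : Red.IsReductive G) {i : T ⟶ G} (hT : Red.IsMaximalTorus i) {M : Type} [AddCommGroup M]
    (hM : Red.IsSplitTorusWith M T) : Nonempty (Coords G T i) := by
  haveI := hT.1; haveI := hG.1; haveI := hG.2.1
  haveI : IsAffine G.left := isAffine_of_isAffineHom G.hom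
  obtain ⟨r, hr⟩ := exists_splitRank hT.2.2.1 hM
  obtain ⟨e, he, he'⟩ := exists_isoTT hr
  haveI := he
  haveI := he'
  obtain ⟨A, _, _, ⟨eA⟩⟩ := Groth.L25.Bridge.exists_hopf (R := k) G
  let eq : G ≅ P k A := (Grp.forget _).mapIso eA
  haveI : IsMonHom eq.hom := eA.hom.hom.isMonHom_hom
  haveI : IsIso eq.hom := eq.isIso_hom
  obtain ⟨hft, -⟩ := smooth_props eq.hom
  haveI := hft
  obtain ⟨φ, hφ⟩ := exists_sp (e.hom ≫ i ≫ eq.hom)
  exact ⟨{ r := r, A := A, eq := eq, e := e, φ := φ, hφ := hφ }⟩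

namespace Coords

variable {i : T ⟶ G} (D : Coords G T i)

/-- the vectors of characters -/
def ch (m : Fin D.r → ℤ) : T ⟶ Red.Gm (Spec (CommRingCat.of k)) := D.e.inv ≫ chT k m

theorem isMonHom_ch (m : Fin D.r → ℤ) : IsMonHom (D.ch m) := by
  haveI := isMonHom_chT (k := k) m
  exact inferInstanceAs (IsMonHom (D.e.inv ≫ chT k m))

theorem exists_ch (α : T ⟶ Red.Gm (Spec (CommRingCat.of k))) [IsMonHom α] : ∃ m, α = D.ch m := by
  obtain ⟨m, hm⟩ := exists_eq_chT k (D.e.hom ≫ α)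
  exact ⟨m, by rw [ch, ← hm, Iso.inv_hom_id_assoc]⟩

theorem ch_injective : Function.Injective D.ch := fun _ _ h => chT_injective ((cancel_epi D.e.inv).1 h)

theorem ch_neg (m : Fin D.r → ℤ) : D.ch (-m) = (D.ch m)⁻¹ := by
  rw [ch, ch, chT_neg, GrpObj.comp_inv]

theorem ch_zsmul (m : Fin D.r → ℤ) (n : ℤ) : D.ch (n • m) = D.ch m ^ n := by
  letI : Group (T ⟶ Red.Gm (Spec (CommRingCat.of k))) := Hom.group
  letI : Group (TT k D.r ⟶ Red.Gm (Spec (CommRingCat.of k))) := Hom.group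
  rw [ch, ch, chT_zsmul]
  exact map_zpow (MonoidHom.mk' (fun x : TT k D.r ⟶ Red.Gm (Spec (CommRingCat.of k)) => D.e.inv ≫ x)
    fun x y => MonObj.comp_mul D.e.inv x y) _ _

theorem isRoot_ch (m : Fin D.r → ℤ) : LieWt.IsRoot i (D.ch m) ↔ m ≠ 0 ∧ Wt D.φ m ≠ ⊥ :=
  isRoot_iff D.e D.hφ m

include D in
theorem isMaximalTorus (hT : Red.IsMaximalTorus i) : Red.IsMaximalTorus (D.e.hom ≫ i) := by
  haveI : IsIso D.e.hom := D.e.isIso_hom
  haveI : IsMonHom (Grp.mkIso' D.e).hom.hom.hom := D.ehm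
  exact Groth.L24.TorusField.isMaximalTorus_iso_comp hT D.e.hom
    (Groth.L25.TorLift.isTorus_of_iso (Grp.mkIso' D.e).symm hT.2.2.1)

theorem root_line (hG : Red.IsReductive G) (hT : Red.IsMaximalTorus i) {a : Fin D.r → ℤ} (ha : a ≠ 0)
    (hW : Wt D.φ a ≠ ⊥) :
    Module.finrank k (Wt D.φ a) = 1 ∧ Wt D.φ (-a) ≠ ⊥ ∧
      ∀ b, b ≠ 0 → Wt D.φ b ≠ ⊥ → Prop' a b → b = a ∨ b = -a := by
  haveI : IsIso D.eq.hom := D.eq.isIso_hom
  exact root_line_field D.φ D.eq.hom hG (D.isMaximalTorus hT) (by rw [D.hφ, Category.assoc]) ha hW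

theorem exists_weight (hG : Red.IsReductive G) (hT : Red.IsMaximalTorus i) (hne : ¬ IsIso i) :
    ∃ a : Fin D.r → ℤ, a ≠ 0 ∧ Wt D.φ a ≠ ⊥ := by
  haveI : IsIso D.eq.hom := D.eq.isIso_hom
  haveI : IsIso D.e.hom := D.e.isIso_hom
  exact exists_weight_field D.φ D.eq.hom hG (D.isMaximalTorus hT) (by rw [D.hφ, Category.assoc])
    fun _ => hne (IsIso.of_isIso_comp_left D.e.hom i)

theorem finrank_modelWeightSpOf {L : Type v} [LieRing L] [LieAlgebra k L]
    (md : LieS.Model G k (Spec.map (CommRingCat.ofHom (algebraMap k k))) L) (m : Fin D.r → ℤ) :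
    Module.finrank k (LieWt.modelWeightSpOf md i (D.ch m)) = Module.finrank k (Wt D.φ m) :=
  Groth.L06.RootLines.finrank_modelWeightSpOf D.e D.hφ m md

end Coords

/-- a split torus is solvable -/
theorem isSolvableGrp_split {M : Type} [AddCommGroup M] (hM : Red.IsSplitTorusWith M T) : Red.IsSolvableGrp T := by
  obtain ⟨e'⟩ := hM
  let d : T ≅ Red.DS (Spec (CommRingCat.of k)) M := (Grp.forget _).mapIso e'
  haveI : IsMonHom d.hom := e'.hom.hom.isMonHom_hom
  refine ⟨1, fun X => ?_⟩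
  have hcomm : ∀ a b : X ⟶ T, a * b = b * a := fun a b => by
    rw [← cancel_mono d.hom, MonObj.mul_comp, MonObj.mul_comp]
    exact Groth.L25.DSPts.char_injective (by rw [Groth.L25.DSPts.char_mul, Groth.L25.DSPts.char_mul, mul_comm])
  rw [derivedSeries_one, commutator_def, Subgroup.commutator_eq_bot_iff_le_centralizer]
  exact fun a _ => Subgroup.mem_centralizer_iff.2 fun b _ => hcomm b a

end Groth.L06.RootLines
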